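import Groth.Agent.EtRamLib.Tower

/-!
# Tame and unramified extensions in towers
-/

set_option autoImplicit false
set_option linter.style.haveILetI false
universe u

open IsLocalRing

namespace Groth.Agent.EtRamLib

variable {A K : Type u} [CommRing A] [IsDomain A] [IsDiscreteValuationRing A] [Field K] [Algebra A K]
  [IsFractionRing A K] {L M : Type u} [Field L] [Field M]
  [Algebra K L] [Algebra K M] [Algebra L M] [IsScalarTower K L M]

omit [IsDomain A] [IsDiscreteValuationRing A] [IsFractionRing A K] in
theorem comp_eq : (algebraMap K M).comp (algebraMap A K) =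
    (algebraMap L M).comp ((algebraMap K L).comp (algebraMap A K)) := by
  rw [← RingHom.comp_assoc, ← IsScalarTower.algebraMap_eq K L M]

theorem isLocalHom_of_dominates {F : Type u} [Field F] (g : A →+* F) (V : ValuationSubring F)
    (h : EtRam.Dominates A g V) : IsLocalHom (RingHom.codRestrict g V h.1) :=
  ⟨fun a ha => by
    by_contra hna
    exact (mem_maximalIdeal _).1 ((V.valuation_lt_one_iff _).2 (h.2 a ((mem_maximalIdeal _).2 hna))) ha⟩

/-- Everything attached to a valuation subring upstairs and its trace downstairs. -/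
theorem tower_data [FiniteDimensional K M] [Algebra.IsSeparable K M] (W : ValuationSubring M)
    (hW : EtRam.Dominates A ((algebraMap L M).comp ((algebraMap K L).comp (algebraMap A K))) W) :
    EtRam.Dominates A ((algebraMap K L).comp (algebraMap A K)) (W.comap (algebraMap L M)) ∧
      EtRam.Dominates A ((algebraMap K M).comp (algebraMap A K)) W ∧
      EtRam.Dominates (W.comap (algebraMap L M)) ((algebraMap L M).comp (W.comap (algebraMap L M)).subtype) W ∧
      IsDiscreteValuationRing (W.comap (algebraMap L M)) ∧ IsDiscreteValuationRing W := by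
  haveI : FiniteDimensional K L := FiniteDimensional.left K L M
  haveI : Algebra.IsSeparable K L := Algebra.isSeparable_tower_bot_of_isSeparable K L M
  have hWK : EtRam.Dominates A ((algebraMap K M).comp (algebraMap A K)) W := by rw [comp_eq (L := L)]; exact hW
  have hV := dominates_comap _ hW
  refine ⟨hV, hWK, ⟨fun x => x.2, fun x hx => ?_⟩, isDVR_of_dominates A K _ hV, isDVR_of_dominates A K W hWK⟩
  exact (W.valuation_lt_one_iff (EtRam.inclOfComap W (algebraMap L M) x)).1 ((mem_maximalIdeal _).2 fun hu =>
    (mem_maximalIdeal _).1 hx (isUnit_of_map_unit (EtRam.inclOfComap W (algebraMap L M)) x hu))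

theorem tame_iff_aux [FiniteDimensional K M] [Algebra.IsSeparable K M] (W : ValuationSubring M)
    (hW : EtRam.Dominates A ((algebraMap K M).comp (algebraMap A K)) W)
    (V : ValuationSubring L) (hV : EtRam.Dominates A ((algebraMap K L).comp (algebraMap A K)) V)
    (hWV : W.comap (algebraMap L M) = V) :
    letI : Algebra A W := (RingHom.codRestrict _ W hW.1).toAlgebra
    letI : Algebra A V := (RingHom.codRestrict _ V hV.1).toAlgebra
    letI : Algebra V W := (RingHom.codRestrict ((algebraMap L M).comp V.subtype) W (fun x => hWV.ge x.2)).toAlgebra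
    IsScalarTower A V W ∧ IsLocalHom (algebraMap A W) ∧ IsLocalHom (algebraMap A V) ∧
      IsLocalHom (algebraMap V W) ∧ IsDiscreteValuationRing V ∧ IsDiscreteValuationRing W ∧
      Function.Injective (algebraMap A V) ∧ Function.Injective (algebraMap V W) := by
  letI : Algebra A W := (RingHom.codRestrict _ W hW.1).toAlgebra
  letI : Algebra A V := (RingHom.codRestrict _ V hV.1).toAlgebra
  letI : Algebra V W := (RingHom.codRestrict ((algebraMap L M).comp V.subtype) W (fun x => hWV.ge x.2)).toAlgebra
  obtain ⟨-, -, h3, h4, h5⟩ := tower_data (A := A) (L := L) W (by rw [← comp_eq (A := A) (K := K) (L := L)]; exact hW)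
  refine ⟨IsScalarTower.of_algebraMap_eq fun a => Subtype.ext ?_, isLocalHom_of_dominates _ W hW,
    isLocalHom_of_dominates _ V hV, ⟨fun x hx => ?_⟩, hWV ▸ h4, h5, fun a b h => ?_, fun a b h => ?_⟩
  · show (algebraMap K M) (algebraMap A K a) = algebraMap L M (algebraMap K L (algebraMap A K a))
    rw [← IsScalarTower.algebraMap_apply K L M]
  · subst hWV
    exact isUnit_of_map_unit (EtRam.inclOfComap W (algebraMap L M)) x hx
  · exact IsFractionRing.injective A K ((algebraMap K L).injective (congrArg Subtype.val h))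
  · exact Subtype.ext ((algebraMap L M).injective (congrArg Subtype.val h))

theorem tame_subextension [FiniteDimensional K M] [Algebra.IsSeparable K M]
    (h : EtRam.IsTamelyRamified A ((algebraMap K M).comp (algebraMap A K))) :
    EtRam.IsTamelyRamified A ((algebraMap K L).comp (algebraMap A K)) := by
  intro V hV
  letI : Algebra A V := (RingHom.codRestrict _ V hV.1).toAlgebra
  intro _
  obtain ⟨W, hW, hWV⟩ := exists_above (M := M) _ V hV
  rw [← comp_eq (L := L)] at hW
  obtain ⟨i1, i2, i3, i4, i5, i6, i7, i8⟩ := tame_iff_aux W hW V hV hWV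
  letI : Algebra A W := (RingHom.codRestrict _ W hW.1).toAlgebra
  letI : Algebra V W := (RingHom.codRestrict ((algebraMap L M).comp V.subtype) W (fun x => hWV.ge x.2)).toAlgebra
  obtain ⟨hsep, hp⟩ := @h W hW i2
  refine ⟨isSeparable_residue_bot A V W, fun p hp' hc hd => hp p hp' hc ?_⟩
  rw [ramificationIdx'_mul A V W i7 i8]
  exact hd.mul_right _

theorem unramified_subextension [FiniteDimensional K M] [Algebra.IsSeparable K M]
    (h : EtRam.IsUnramifiedExt A ((algebraMap K M).comp (algebraMap A K))) :
    EtRam.IsUnramifiedExt A ((algebraMap K L).comp (algebraMap A K)) := by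
  intro V hV
  letI : Algebra A V := (RingHom.codRestrict _ V hV.1).toAlgebra
  intro _
  obtain ⟨W, hW, hWV⟩ := exists_above (M := M) _ V hV
  rw [← comp_eq (L := L)] at hW
  obtain ⟨i1, i2, i3, i4, i5, i6, i7, i8⟩ := tame_iff_aux W hW V hV hWV
  letI : Algebra A W := (RingHom.codRestrict _ W hW.1).toAlgebra
  letI : Algebra V W := (RingHom.codRestrict ((algebraMap L M).comp V.subtype) W (fun x => hWV.ge x.2)).toAlgebra
  obtain ⟨hw, hsep⟩ := @h W hW i2
  refine ⟨?_, isSeparable_residue_bot A V W⟩
  obtain ⟨π, hπ⟩ := IsDiscreteValuationRing.exists_irreducible A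
  unfold EtRam.IsWeaklyUnramified at hw ⊢
  rw [hπ.maximalIdeal_eq, Ideal.map_span, Set.image_singleton] at hw ⊢
  refine le_antisymm ((Ideal.span_singleton_le_iff_mem _).2 (map_nonunit (algebraMap A V) π
    ((mem_maximalIdeal _).2 hπ.not_isUnit))) fun x hx => ?_
  obtain ⟨w, hxw⟩ := Ideal.mem_span_singleton.1 (hw.ge (map_nonunit (algebraMap V W) x hx))
  let y : L := (x : L) / algebraMap K L (algebraMap A K π)
  have hπ0 : algebraMap K L (algebraMap A K π) ≠ 0 := fun h0 => hπ.ne_zero (i7 (Subtype.ext (h0.trans
    (show (0 : L) = ((algebraMap A V 0 : V) : L) by simp))))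
  have hy : y ∈ V := by
    rw [← hWV, ValuationSubring.mem_comap]
    have e : algebraMap L M y = (w : M) := by
      have e1 : algebraMap L M x = algebraMap K M (algebraMap A K π) * (w : M) := congrArg Subtype.val hxw
      rw [map_div₀, e1, ← IsScalarTower.algebraMap_apply K L M, mul_div_assoc, mul_comm]
      exact div_mul_cancel₀ _ (by rw [IsScalarTower.algebraMap_apply K L M]; exact (map_ne_zero _).2 hπ0)
    rw [e]
    exact w.2
  exact Ideal.mem_span_singleton.2 ⟨⟨y, hy⟩, Subtype.ext (mul_div_cancel₀ _ hπ0).symm⟩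

theorem tame_composition [FiniteDimensional K M] [Algebra.IsSeparable K M]
    (hL : EtRam.IsTamelyRamified A ((algebraMap K L).comp (algebraMap A K)))
    (hM : ∀ V : ValuationSubring L, EtRam.Dominates A ((algebraMap K L).comp (algebraMap A K)) V →
      EtRam.IsTamelyRamified V ((algebraMap L M).comp V.subtype)) :
    EtRam.IsTamelyRamified A ((algebraMap K M).comp (algebraMap A K)) := by
  intro W hW
  letI : Algebra A W := (RingHom.codRestrict _ W hW.1).toAlgebra
  intro _
  obtain ⟨hV, -, hVW, -, -⟩ := tower_data (A := A) (L := L) W (by rw [← comp_eq (A := A) (K := K) (L := L)]; exact hW)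
  obtain ⟨i1, i2, i3, i4, i5, i6, i7, i8⟩ := tame_iff_aux W hW _ hV rfl
  let V := W.comap (algebraMap L M)
  letI : Algebra A V := (RingHom.codRestrict _ V hV.1).toAlgebra
  letI : Algebra V W := (RingHom.codRestrict ((algebraMap L M).comp V.subtype) W (fun x => x.2)).toAlgebra
  obtain ⟨hs1, hp1⟩ := @hL V hV i3
  obtain ⟨hs2, hp2⟩ := @hM V hV W hVW i4
  refine ⟨isSeparable_residue_trans A V W, fun p hp hc hd => ?_⟩
  rw [ramificationIdx'_mul A V W i7 i8] at hd
  rcases hp.dvd_mul.1 hd with hd | hd
  · exact hp1 p hp hc hd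
  · exact hp2 p hp (charP_of_injective_algebraMap (RingHom.injective (algebraMap (ResidueField A) (ResidueField V))) p) hd

theorem unramified_composition [FiniteDimensional K M] [Algebra.IsSeparable K M]
    (hL : EtRam.IsUnramifiedExt A ((algebraMap K L).comp (algebraMap A K)))
    (hM : ∀ V : ValuationSubring L, EtRam.Dominates A ((algebraMap K L).comp (algebraMap A K)) V →
      EtRam.IsUnramifiedExt V ((algebraMap L M).comp V.subtype)) :
    EtRam.IsUnramifiedExt A ((algebraMap K M).comp (algebraMap A K)) := by
  intro W hW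
  letI : Algebra A W := (RingHom.codRestrict _ W hW.1).toAlgebra
  intro _
  obtain ⟨hV, -, hVW, -, -⟩ := tower_data (A := A) (L := L) W (by rw [← comp_eq (A := A) (K := K) (L := L)]; exact hW)
  obtain ⟨i1, i2, i3, i4, i5, i6, i7, i8⟩ := tame_iff_aux W hW _ hV rfl
  let V := W.comap (algebraMap L M)
  letI : Algebra A V := (RingHom.codRestrict _ V hV.1).toAlgebra
  letI : Algebra V W := (RingHom.codRestrict ((algebraMap L M).comp V.subtype) W (fun x => x.2)).toAlgebra
  obtain ⟨hw1, hs1⟩ := @hL V hV i3
  obtain ⟨hw2, hs2⟩ := @hM V hV W hVW i4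
  refine ⟨?_, isSeparable_residue_trans A V W⟩
  unfold EtRam.IsWeaklyUnramified at hw1 hw2 ⊢
  rw [IsScalarTower.algebraMap_eq A V W, ← Ideal.map_map, hw1, hw2]

end Groth.Agent.EtRamLib
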