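import Groth.Agent.EtRamLib.Types

/-!
# Unramified extensions after extending the base discrete valuation ring
-/

set_option autoImplicit false
set_option linter.style.haveILetI false
universe u

open IsLocalRing TensorProduct

namespace Groth.Agent.EtRamLib

/-- A valuation ring mapping locally to a valuation subring of its fraction field fills it up. -/
theorem surjective_of_valuationRing {R F : Type u} [CommRing R] [IsDomain R] [ValuationRing R] [Field F]
    [Algebra R F] [IsFractionRing R F] (W : ValuationSubring F) (Φ : R →+* W) [IsLocalHom Φ]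
    (hΦ : ∀ r, (Φ r : F) = algebraMap R F r) : Function.Surjective Φ := fun x => by
  rcases ValuationRing.isInteger_or_isInteger R (x : F) with ⟨b, hb⟩ | ⟨b, hb⟩
  · exact ⟨b, Subtype.ext ((hΦ b).trans hb)⟩
  rcases eq_or_ne (x : F) 0 with h0 | h0
  · exact ⟨0, by rw [map_zero]; exact Subtype.ext h0.symm⟩
  have he : Φ b * x = 1 := Subtype.ext (by
    show (Φ b : F) * (x : F) = 1
    rw [hΦ, hb, inv_mul_cancel₀ h0])
  obtain ⟨u, rfl⟩ := isUnit_of_map_unit Φ b (IsUnit.of_mul_eq_one _ he)
  exact ⟨↑u⁻¹, mul_left_cancel₀ (left_ne_zero_of_mul_eq_one he) (by rw [he, ← map_mul, Units.mul_inv, map_one])⟩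

/-- If the localisation of a birational subalgebra at the centre of `W` is a valuation ring, it is `W`. -/
theorem exists_surjective_of_center {A : Type u} [CommRing A] {T F : Type u} [CommRing T] [IsDomain T] [Field F]
    [Algebra A T] [Algebra T F] [IsFractionRing T F] (W : ValuationSubring F) [Algebra A W] (φ : T →ₐ[A] W)
    (hφ : ∀ t, (φ t : F) = algebraMap T F t)
    (hval : ValuationRing (Localization.AtPrime ((maximalIdeal W).comap φ.toRingHom))) :
    ∃ Φ : Localization.AtPrime ((maximalIdeal W).comap φ.toRingHom) →ₐ[A] W,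
      Function.Surjective Φ ∧ IsLocalHom Φ.toRingHom := by
  set P := (maximalIdeal W).comap φ.toRingHom
  let Loc := Localization.AtPrime P
  haveI := hval
  have hunit : ∀ s : P.primeCompl, IsUnit (φ.toRingHom (s : T)) := fun s => notMem_maximalIdeal.1 s.2
  let Φ₀ : Loc →+* W := IsLocalization.lift hunit
  have hΦ₀ : ∀ t, Φ₀ (algebraMap T Loc t) = φ t := IsLocalization.lift_eq hunit
  let Φ : Loc →ₐ[A] W :=
    { Φ₀ with
      commutes' := fun a => by
        show Φ₀ (algebraMap A Loc a) = _
        rw [IsScalarTower.algebraMap_apply A T Loc, hΦ₀, φ.commutes] }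
  haveI : IsDomain Loc := IsLocalization.isDomain_localization P.primeCompl_le_nonZeroDivisors
  have hunitF : ∀ s : P.primeCompl, IsUnit (algebraMap T F (s : T)) := fun s => by
    rw [← hφ]
    exact (hunit s).map W.subtype
  letI : Algebra Loc F := (IsLocalization.lift hunitF).toAlgebra
  haveI : IsScalarTower T Loc F := IsScalarTower.of_algebraMap_eq fun t => (IsLocalization.lift_eq hunitF t).symm
  haveI : IsFractionRing Loc F := IsFractionRing.isFractionRing_of_isDomain_of_isLocalization P.primeCompl Loc F
  haveI : IsLocalHom Φ₀ := ⟨fun b hb => by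
    obtain ⟨c, s, rfl⟩ := IsLocalization.exists_mk'_eq P.primeCompl b
    refine (IsLocalization.AtPrime.isUnit_mk'_iff Loc P c s).2 fun hc => (mem_maximalIdeal _).1 hc ?_
    have e := congrArg Φ₀ (IsLocalization.mk'_spec Loc c s)
    rw [map_mul, hΦ₀, hΦ₀] at e
    exact e ▸ hb.mul (hunit s)⟩
  refine ⟨Φ, surjective_of_valuationRing W Φ₀ fun r => ?_, ‹_›⟩
  have : W.subtype.comp Φ₀ = algebraMap Loc F := IsLocalization.ringHom_ext P.primeCompl (RingHom.ext fun t => by
    show (Φ₀ (algebraMap T Loc t) : F) = algebraMap Loc F (algebraMap T Loc t)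
    rw [hΦ₀, hφ, ← IsScalarTower.algebraMap_apply])
  exact RingHom.congr_fun this r

/-- A valuation subring generated birationally by an unramified algebra over the DVR is unramified over it. -/
theorem formallyUnramified_of_birational {B F : Type u} [CommRing B] [IsDomain B] [IsDiscreteValuationRing B]
    [Field F] {g : B →+* F} (W : ValuationSubring F) (hW : EtRam.Dominates B g W) {T : Type u} [CommRing T] [Algebra B T]
    [Algebra.FormallyUnramified B T] [Algebra.EssFiniteType B T]
    (θ : letI : Algebra B W := (RingHom.codRestrict g W hW.1).toAlgebra; T →ₐ[B] W)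
    (hg0 : ∀ π : B, Irreducible π → g π ≠ 0)
    (hgen : ∀ z : F, z ∈ Subfield.closure (Set.range fun t => (θ t : F))) :
    letI : Algebra B W := (RingHom.codRestrict g W hW.1).toAlgebra
    ∀ [IsLocalHom (algebraMap B W)],
      EtRam.IsWeaklyUnramified B W ∧ Algebra.IsSeparable (ResidueField B) (ResidueField W) := by
  letI : Algebra B W := (RingHom.codRestrict g W hW.1).toAlgebra
  intro _
  obtain ⟨π, hπ⟩ := IsDiscreteValuationRing.exists_irreducible B
  have hg0 := hg0 π hπ
  let D := θ.range
  haveI : Algebra.FormallyUnramified B D := Algebra.FormallyUnramified.of_surjective θ.rangeRestrict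
    θ.rangeRestrict_surjective
  haveI : Algebra.EssFiniteType B D := Algebra.EssFiniteType.of_surjective θ.rangeRestrict θ.rangeRestrict_surjective
  have hDinj : Function.Injective (algebraMap D F) := fun a b e => Subtype.ext (Subtype.ext e)
  haveI : FaithfulSMul D F := (faithfulSMul_iff_algebraMap_injective D F).2 hDinj
  haveI : IsFractionRing D F := by
    refine IsFractionRing.of_field D F fun z => ?_
    let S : Subfield F := (IsFractionRing.lift hDinj : FractionRing D →+* F).fieldRange
    have hz : z ∈ S := by
      refine (Subfield.closure_le (t := S)).2 ?_ (hgen z)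
      rintro _ ⟨t, rfl⟩
      exact ⟨algebraMap D _ (θ.rangeRestrict t), IsFractionRing.lift_algebraMap hDinj _⟩
    obtain ⟨w, rfl⟩ := hz
    obtain ⟨a, b, -, rfl⟩ := IsFractionRing.div_surjective (A := D) w
    exact ⟨a, b, by rw [map_div₀, IsFractionRing.lift_algebraMap, IsFractionRing.lift_algebraMap]⟩
  let φ : D →ₐ[B] W := D.val
  set P := (maximalIdeal W).comap φ.toRingHom
  let R := Localization.AtPrime P
  haveI : IsNoetherianRing D := Algebra.EssFiniteType.isNoetherianRing B D
  haveI : IsNoetherianRing R := IsLocalization.isNoetherianRing P.primeCompl R inferInstance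
  haveI : IsDomain R := IsLocalization.isDomain_localization P.primeCompl_le_nonZeroDivisors
  haveI : Algebra.EssFiniteType D R := Algebra.EssFiniteType.of_isLocalization R P.primeCompl
  haveI : Algebra.EssFiniteType B R := Algebra.EssFiniteType.comp B D R
  haveI : Algebra.FormallyUnramified D R := .of_isLocalization P.primeCompl
  haveI : Algebra.FormallyUnramified B R := Algebra.FormallyUnramified.comp B D R
  haveI : IsLocalHom (algebraMap B R) := ⟨fun b hb => by
    by_contra hnb
    have h1 : algebraMap B D b ∈ P :=
      (W.valuation_lt_one_iff (φ (algebraMap B D b))).2 (hW.2 b ((mem_maximalIdeal _).2 hnb))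
    rw [IsScalarTower.algebraMap_apply B D R] at hb
    exact ((IsLocalization.AtPrime.isUnit_to_map_iff R P _).1 hb) h1⟩
  have hprinc : maximalIdeal R = Ideal.span {algebraMap B R π} := by
    refine (Algebra.FormallyUnramified.map_maximalIdeal (R := B) (S := R)).symm.trans ?_
    refine (congrArg (Ideal.map (algebraMap B R)) hπ.maximalIdeal_eq).trans ?_
    rw [Ideal.map_span, Set.image_singleton]
  haveI : ValuationRing R := by
    haveI : (maximalIdeal R).IsPrincipal := ⟨⟨_, hprinc⟩⟩
    have hf' : ¬ IsField R := fun hf => by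
      have h0 : maximalIdeal R = ⊥ := IsLocalRing.isField_iff_maximalIdeal_eq.1 hf
      rw [hprinc, Ideal.span_singleton_eq_bot, IsScalarTower.algebraMap_apply B D R,
        IsLocalization.to_map_eq_zero_iff R P.primeCompl_le_nonZeroDivisors] at h0
      have h1 : g π = 0 := congrArg (fun d : D => ((d : W) : F)) h0
      exact hg0 h1
    have h41 : (maximalIdeal R).IsPrincipal ↔ ValuationRing R := (IsDiscreteValuationRing.TFAE R hf').out 4 1
    exact h41.1 inferInstance
  obtain ⟨Φ, hΦ, -⟩ := exists_surjective_of_center W φ (fun _ => rfl) inferInstance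
  haveI : Algebra.FormallyUnramified B W := Algebra.FormallyUnramified.of_surjective Φ hΦ
  haveI : Algebra.EssFiniteType B W := Algebra.EssFiniteType.of_surjective Φ hΦ
  exact ⟨Algebra.FormallyUnramified.map_maximalIdeal, inferInstance⟩

/-- Unramified implies tamely ramified. -/
theorem tame_of_unramified {A L : Type u} [CommRing A] [IsDomain A] [IsDiscreteValuationRing A] [Field L]
    {g : A →+* L} (hg : ∀ π : A, Irreducible π → g π ≠ 0) (h : EtRam.IsUnramifiedExt A g) : EtRam.IsTamelyRamified A g := by
  intro V hV
  letI : Algebra A V := (RingHom.codRestrict g V hV.1).toAlgebra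
  intro _
  obtain ⟨hw, hs⟩ := h V hV
  refine ⟨hs, fun p hp _ hd => ?_⟩
  obtain ⟨π, hπ⟩ := IsDiscreteValuationRing.exists_irreducible A
  have hm : maximalIdeal V = Ideal.span {algebraMap A V π} := by
    rw [← hw, hπ.maximalIdeal_eq, Ideal.map_span, Set.image_singleton]
  have hx0 : algebraMap A V π ≠ 0 := fun h0 => hg π hπ (congrArg Subtype.val h0)
  have h2 : ¬ Ideal.map (algebraMap A V) (maximalIdeal A) ≤ maximalIdeal V ^ (1 + 1) := by
    rw [hw, hm, Ideal.span_singleton_pow, Ideal.span_singleton_le_span_singleton]
    rintro ⟨c, hc⟩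
    refine (mem_maximalIdeal _).1 (show algebraMap A V π ∈ maximalIdeal V from hm ▸ Ideal.mem_span_singleton_self _)
      (IsUnit.of_mul_eq_one c (mul_left_cancel₀ hx0 ?_))
    linear_combination -hc
  rw [Ideal.ramificationIdx'_spec (n := 1) (by rw [pow_one]; exact hw.le) h2, Nat.dvd_one] at hd
  exact hp.ne_one hd

variable (A K : Type u) [CommRing A] [IsDomain A] [IsDiscreteValuationRing A] [Field K] [Algebra A K]
  [IsFractionRing A K] {K' : Type u} [Field K'] [Algebra K K'] [FiniteDimensional K K'] [Algebra.IsSeparable K K']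

/-- Valuation subrings over `A` in a finite separable extension are essentially of finite type. -/
theorem essFiniteType_of_dominates (V : ValuationSubring K')
    (hV : EtRam.Dominates A ((algebraMap K K').comp (algebraMap A K)) V) :
    letI : Algebra A V := (RingHom.codRestrict _ V hV.1).toAlgebra
    Algebra.EssFiniteType A V := by
  letI : Algebra A V := (RingHom.codRestrict _ V hV.1).toAlgebra
  letI : Algebra A K' := ((algebraMap K K').comp (algebraMap A K)).toAlgebra
  haveI : IsScalarTower A K K' := IsScalarTower.of_algebraMap_eq fun _ => rfl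
  let C := integralClosure A K'
  haveI : IsDedekindDomain C := integralClosure.isDedekindDomain A K K'
  haveI : Module.Finite A C := IsIntegralClosure.finite A K K' C
  haveI : IsFractionRing C K' := IsIntegralClosure.isFractionRing_of_finite_extension A K K' C
  have hCV : ∀ c : C, (c : K') ∈ V := fun c => by
    obtain ⟨P, hP, hPc⟩ := c.2
    have : IsIntegral V (c : K') := ⟨P.map (algebraMap A V), hP.map _, by
      rw [Polynomial.eval₂_map]; exact hPc⟩
    obtain ⟨v, hv⟩ := IsIntegrallyClosed.isIntegral_iff.1 this
    rw [← hv]; exact v.2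
  let φ : C →ₐ[A] V := { C.val.toRingHom.codRestrict V hCV with commutes' := fun a => Subtype.ext rfl }
  obtain ⟨π, hπ⟩ := IsDiscreteValuationRing.exists_irreducible A
  have hne : (maximalIdeal V).comap φ.toRingHom ≠ ⊥ := fun h => by
    have hm : algebraMap A C π ∈ (maximalIdeal V).comap φ.toRingHom :=
      (V.valuation_lt_one_iff (φ (algebraMap A C π))).2 (hV.2 π ((mem_maximalIdeal _).2 hπ.not_isUnit))
    rw [h, Ideal.mem_bot] at hm
    exact hπ.ne_zero (IsFractionRing.injective A K ((algebraMap K K').injective (by
      rw [map_zero, map_zero]; exact congrArg Subtype.val hm)))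
  haveI := IsLocalization.AtPrime.isDiscreteValuationRing_of_dedekind_domain C hne
    (Localization.AtPrime ((maximalIdeal V).comap φ.toRingHom))
  obtain ⟨Φ, hΦ, -⟩ := exists_surjective_of_center V φ (fun _ => rfl) inferInstance
  exact Algebra.EssFiniteType.of_surjective Φ hΦ

variable {B L : Type u} [CommRing B] [IsDomain B] [IsDiscreteValuationRing B] [Field L] [Algebra B L]
  [IsFractionRing B L] [Algebra A B] [IsLocalHom (algebraMap A B)] [Algebra K L] [Algebra A L]
  [IsScalarTower A K L] [IsScalarTower A B L]

/-- An unramified extension stays unramified in a composite with a larger base. -/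
theorem unramified_base_change
    (h : EtRam.IsUnramifiedExt A ((algebraMap K K').comp (algebraMap A K)))
    {F : Type u} [Field F] (i : K' →+* F) (j : L →+* F)
    (hij : i.comp (algebraMap K K') = j.comp (algebraMap K L))
    (hgen : Subfield.closure (Set.range i ∪ Set.range j) = ⊤) :
    EtRam.IsUnramifiedExt B (j.comp (algebraMap B L)) := by
  intro W hW
  letI : Algebra B W := (RingHom.codRestrict _ W hW.1).toAlgebra
  intro _
  let gA : A →+* K' := (algebraMap K K').comp (algebraMap A K)
  have hWA : EtRam.Dominates A (i.comp gA) W := by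
    have e : ∀ a, i (gA a) = j (algebraMap B L (algebraMap A B a)) := fun a => by
      rw [← IsScalarTower.algebraMap_apply A B L, IsScalarTower.algebraMap_apply A K L]
      exact RingHom.congr_fun hij (algebraMap A K a)
    refine ⟨fun a => ?_, fun a ha => ?_⟩
    · rw [RingHom.comp_apply, e]
      exact hW.1 _
    · rw [RingHom.comp_apply, e]
      exact hW.2 _ (map_nonunit (algebraMap A B) a ha)
  letI : Algebra K' F := i.toAlgebra
  have hV : EtRam.Dominates A gA (W.comap i) := dominates_comap (L := K') (M := F) gA hWA
  let V := W.comap i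
  letI : Algebra A V := (RingHom.codRestrict gA V hV.1).toAlgebra
  haveI : IsLocalHom (algebraMap A V) := isLocalHom_of_dominates gA V hV
  haveI : Algebra.EssFiniteType A V := essFiniteType_of_dominates A K V hV
  obtain ⟨hw, hs⟩ := h V hV
  haveI := hs
  haveI : Algebra.FormallyUnramified A V := Algebra.FormallyUnramified.of_map_maximalIdeal hw
  letI : Algebra A W := ((algebraMap B W).comp (algebraMap A B)).toAlgebra
  haveI : IsScalarTower A B W := IsScalarTower.of_algebraMap_eq fun _ => rfl
  let ψ : V →ₐ[A] W :=
    { EtRam.inclOfComap W i with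
      commutes' := fun a => Subtype.ext (by
        show i (gA a) = j (algebraMap B L (algebraMap A B a))
        rw [← IsScalarTower.algebraMap_apply A B L, IsScalarTower.algebraMap_apply A K L]
        exact RingHom.congr_fun hij (algebraMap A K a)) }
  let θ : B ⊗[A] V →ₐ[B] W := Algebra.TensorProduct.lift (Algebra.ofId B W) ψ fun _ _ => .all _ _
  refine formallyUnramified_of_birational W hW θ (fun π hπ h => hπ.ne_zero (IsFractionRing.injective B L
    ((j.injective (h.trans (map_zero j).symm)).trans (map_zero _).symm))) fun z => ?_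
  have hθ : ∀ b v, (θ (b ⊗ₜ v) : F) = j (algebraMap B L b) * i (v : K') := fun b v => by
    show ((θ (b ⊗ₜ v) : W) : F) = _
    rw [Algebra.TensorProduct.lift_tmul]
    rfl
  let S := Subfield.closure (Set.range fun t => (θ t : F))
  refine (Subfield.closure_le (t := S)).2 ?_ (hgen ▸ Subfield.mem_top z)
  rintro _ (⟨x, rfl⟩ | ⟨x, rfl⟩)
  · have hv : ∀ v : V, i (v : K') ∈ S := fun v =>
      Subfield.subset_closure ⟨1 ⊗ₜ v, show (θ (1 ⊗ₜ v) : F) = _ by rw [hθ, map_one, map_one, one_mul]⟩
    rcases V.mem_or_inv_mem x with hx | hx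
    · exact hv ⟨x, hx⟩
    · have := S.inv_mem (hv ⟨x⁻¹, hx⟩)
      rwa [map_inv₀, inv_inv] at this
  · obtain ⟨a, b, -, rfl⟩ := IsFractionRing.div_surjective (A := B) x
    rw [map_div₀]
    refine S.div_mem (Subfield.subset_closure ⟨a ⊗ₜ 1, ?_⟩) (Subfield.subset_closure ⟨b ⊗ₜ 1, ?_⟩) <;>
    · show (θ (_ ⊗ₜ 1) : F) = _
      rw [hθ, OneMemClass.coe_one, map_one, mul_one]

end Groth.Agent.EtRamLib
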