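import Groth.Agent.S14457
import Groth.Agent.EtRamLib.Types
import Groth.Agent.EtRamLib.UnrBaseChange
import Groth.Agent.H9Kummer.RadicalTame
import Groth.Agent.H9Abh.Exp
import Mathlib.RingTheory.RootsOfUnity.AlgebraicallyClosed

/-!
# Radicals of degree prime to the residue characteristic, and tame base change
-/

set_option autoImplicit false
set_option linter.style.haveILetI false
universe u

open IsLocalRing Polynomial

noncomputable section

namespace Groth.Agent.EtRamLib

variable {A K : Type u} [CommRing A] [IsDomain A] [IsDiscreteValuationRing A] [Field K] [Algebra A K]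
  [IsFractionRing A K]

/-- Adjoining a root of unity of order invertible in the base is unramified. -/
theorem unramified_of_root_unity {L : Type u} [Field L] [Algebra K L] (ζ : L) (n : ℕ) (hn : IsUnit (n : A))
    (hζ : ζ ^ n = 1) (hgen : IntermediateField.adjoin K ({ζ} : Set L) = ⊤) :
    EtRam.IsUnramifiedExt A ((algebraMap K L).comp (algebraMap A K)) := by
  intro W hW
  letI : Algebra A W := (RingHom.codRestrict _ W hW.1).toAlgebra
  intro _
  have hn0 : n ≠ 0 := fun h => not_isUnit_zero (M₀ := A) (by simpa [h] using hn)
  have hζW : ζ ∈ W := by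
    have hi : IsIntegral W ζ := IsIntegral.of_pow (Nat.pos_of_ne_zero hn0) (by rw [hζ]; exact isIntegral_one)
    obtain ⟨w, hw⟩ := IsIntegrallyClosed.isIntegral_iff.1 hi
    exact hw ▸ w.2
  let T := AdjoinRoot ((X : A[X]) ^ n - C 1)
  haveI : Algebra.Etale A T :=
    (S14457.result A 1 n (Nat.one_le_iff_ne_zero.2 hn0)).2 (Or.inr (by rw [mul_one]; exact hn))
  haveI : Algebra.EssFiniteType A T := inferInstance
  let θ : T →ₐ[A] W := AdjoinRoot.liftAlgHom _ (Algebra.ofId A W) (⟨ζ, hζW⟩ : W) (by
    rw [eval₂_sub, eval₂_pow, eval₂_X, eval₂_C, map_one, sub_eq_zero]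
    exact Subtype.ext hζ)
  refine formallyUnramified_of_birational W hW θ (fun p hp h => hp.ne_zero (IsFractionRing.injective A K
    ((algebraMap K L).injective (h.trans (by simp))))) fun z => ?_
  let S := Subfield.closure (Set.range fun t => (θ t : L))
  have hA : ∀ a, algebraMap K L (algebraMap A K a) ∈ S := fun a =>
    Subfield.subset_closure ⟨algebraMap A T a, congrArg Subtype.val (θ.commutes a)⟩
  have hK : ∀ c : K, algebraMap K L c ∈ S := fun c => by
    obtain ⟨a, b, -, rfl⟩ := IsFractionRing.div_surjective (A := A) c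
    rw [map_div₀]
    exact S.div_mem (hA a) (hA b)
  let S' : IntermediateField K L := { S with algebraMap_mem' := hK }
  have hle : IntermediateField.adjoin K ({ζ} : Set L) ≤ S' := IntermediateField.adjoin_le_iff.2 (by
    rintro x rfl
    refine Subfield.subset_closure ⟨AdjoinRoot.root _, ?_⟩
    exact congrArg Subtype.val (AdjoinRoot.liftAlgHom_root _ _ _ _))
  exact hle (hgen ▸ IntermediateField.mem_top)

/-- A radical extension of degree invertible in the base is tame. -/
theorem tame_of_radical {F : Type u} [Field F] [Algebra K F] [FiniteDimensional K F] [Algebra.IsSeparable K F]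
    (t : F) (n : ℕ) (hn : IsUnit (n : A)) (c : K) (ht : t ^ n = algebraMap K F c)
    (hgen : IntermediateField.adjoin K ({t} : Set F) = ⊤) :
    EtRam.IsTamelyRamified A ((algebraMap K F).comp (algebraMap A K)) := by
  have hn0 : n ≠ 0 := fun h => not_isUnit_zero (M₀ := A) (by simpa [h] using hn)
  let Ω := AlgebraicClosure F
  have hnK : (n : K) ≠ 0 := by
    have := hn.map (algebraMap A K)
    rw [map_natCast] at this
    exact this.ne_zero
  haveI : NeZero (n : Ω) := ⟨fun h => hnK ((algebraMap K Ω).injective (by rw [map_natCast, map_zero, h]))⟩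
  haveI : NeZero n := ⟨hn0⟩
  obtain ⟨ζ, hζ⟩ := HasEnoughRootsOfUnity.exists_primitiveRoot Ω n
  let L : IntermediateField K Ω := IntermediateField.adjoin K ({ζ} : Set Ω)
  have hζi : IsIntegral K ζ := IsIntegral.of_pow (Nat.pos_of_ne_zero hn0) (by rw [hζ.pow_eq_one]; exact isIntegral_one)
  have hζs : IsSeparable K ζ := (separable_X_pow_sub_C (1 : K) hnK one_ne_zero).of_dvd
    (minpoly.dvd K ζ (by simp [hζ.pow_eq_one]))
  haveI : FiniteDimensional K L := IntermediateField.adjoin.finiteDimensional hζi
  haveI : Algebra.IsSeparable K L := (IntermediateField.isSeparable_adjoin_simple_iff_isSeparable K Ω).2 hζs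
  let t' : Ω := algebraMap F Ω t
  let M : IntermediateField L Ω := IntermediateField.adjoin L ({t'} : Set Ω)
  have hti : IsIntegral K t' := (Algebra.IsIntegral.isIntegral (R := K) t).map (IsScalarTower.toAlgHom K F Ω)
  have hts : IsSeparable K t' := by
    have := Algebra.IsSeparable.isSeparable K t
    rw [IsSeparable] at this ⊢
    rwa [minpoly.algebraMap_eq (algebraMap F Ω).injective]
  haveI : FiniteDimensional L M := IntermediateField.adjoin.finiteDimensional hti.tower_top
  haveI : Algebra.IsSeparable L M :=
    (IntermediateField.isSeparable_adjoin_simple_iff_isSeparable L Ω).2 (IsSeparable.tower_top L hts)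
  haveI : FiniteDimensional K M := FiniteDimensional.trans K L M
  haveI : Algebra.IsSeparable K M := Algebra.IsSeparable.trans K L M
  have hFM : ∀ z : F, algebraMap F Ω z ∈ M := fun z => by
    have hz : z ∈ IntermediateField.adjoin K ({t} : Set F) := hgen ▸ IntermediateField.mem_top
    have hle : IntermediateField.adjoin K ({t} : Set F) ≤
        (M.restrictScalars K).comap (IsScalarTower.toAlgHom K F Ω) := IntermediateField.adjoin_le_iff.2 (by
      rintro x rfl
      exact IntermediateField.mem_adjoin_simple_self L _)
    exact hle hz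
  letI : Algebra F M := (RingHom.codRestrict (algebraMap F Ω) M hFM).toAlgebra
  haveI : IsScalarTower K F M := IsScalarTower.of_algebraMap_eq fun a => Subtype.ext (by
    show algebraMap K Ω a = algebraMap F Ω (algebraMap K F a)
    exact IsScalarTower.algebraMap_apply K F Ω a)
  refine tame_subextension (M := M) (tame_composition (L := L) (tame_of_unramified (fun p hp h => hp.ne_zero
    (IsFractionRing.injective A K ((algebraMap K L).injective (h.trans (by simp))))) ?_) fun V hV => ?_)
  · refine unramified_of_root_unity (K := K) (⟨ζ, IntermediateField.mem_adjoin_simple_self K ζ⟩ : L) n hn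
      (Subtype.ext hζ.pow_eq_one) ?_
    apply IntermediateField.map_injective L.val
    rw [IntermediateField.adjoin_map, Set.image_singleton, ← AlgHom.fieldRange_eq_map,
      IntermediateField.fieldRange_val]
    rfl
  letI : Algebra A V := (RingHom.codRestrict _ V hV.1).toAlgebra
  haveI : IsDiscreteValuationRing V := isDVR_of_dominates A K V hV
  have hζL : ζ ∈ L := IntermediateField.mem_adjoin_simple_self K ζ
  refine H9Kummer.RadicalTame.main V L (F := M) (ι := Unit) (fun _ => (⟨t', IntermediateField.mem_adjoin_simple_self L t'⟩ : M))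
    (fun _ => n) (fun _ => Nat.one_le_iff_ne_zero.2 hn0) (fun _ => ⟨algebraMap K L c, Subtype.ext (by
      show t' ^ n = algebraMap K Ω c
      rw [← map_pow, ht, ← IsScalarTower.algebraMap_apply])⟩)
    (fun _ => ⟨⟨ζ, hζL⟩, hζ.of_map_of_injective (f := L.val) L.val.injective⟩) (fun E _ σ τ h0 h1 => ?_) fun _ => ?_
  · refine RingHom.ext fun z => ?_
    obtain ⟨z, hz⟩ := z
    induction hz using IntermediateField.adjoin_induction with
    | mem x hx =>
      obtain rfl : x = t' := hx
      exact h1 ()
    | algebraMap x => exact RingHom.congr_fun h0 x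
    | add x y hx hy ihx ihy => exact ((map_add σ ⟨x, hx⟩ ⟨y, hy⟩).trans (congrArg₂ (· + ·) ihx ihy)).trans (map_add τ _ _).symm
    | inv x hx ih => exact ((map_inv₀ σ (⟨x, hx⟩ : M)).trans (congrArg (·⁻¹) ih)).trans (map_inv₀ τ _).symm
    | mul x y hx hy ihx ihy => exact ((map_mul σ ⟨x, hx⟩ ⟨y, hy⟩).trans (congrArg₂ (· * ·) ihx ihy)).trans (map_mul τ _ _).symm
  · have := (hn.map (algebraMap A V)).map (residue V)
    rwa [map_natCast, map_natCast] at this

variable {K' : Type u} [Field K'] [Algebra K K'] [FiniteDimensional K K'] [Algebra.IsSeparable K K']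
  {B L : Type u} [CommRing B] [IsDomain B] [IsDiscreteValuationRing B] [Field L] [Algebra B L]
  [IsFractionRing B L] [Algebra A B] [IsLocalHom (algebraMap A B)] [Algebra K L] [Algebra A L]
  [IsScalarTower A K L] [IsScalarTower A B L]

/-- A tame extension stays tame in a composite with a larger base. -/
theorem tame_base_change (h : EtRam.IsTamelyRamified A ((algebraMap K K').comp (algebraMap A K)))
    {F : Type u} [Field F] (i : K' →+* F) (j : L →+* F)
    (hij : i.comp (algebraMap K K') = j.comp (algebraMap K L))
    (hgen : Subfield.closure (Set.range i ∪ Set.range j) = ⊤) :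
    EtRam.IsTamelyRamified B (j.comp (algebraMap B L)) := by
  classical
  letI : Algebra L F := j.toAlgebra
  have hjL : algebraMap L F = j := rfl
  let b := Module.finBasis K K'
  have htop : IntermediateField.adjoin L (Set.range fun k => i (b k)) = (⊤ : IntermediateField L F) := by
    refine eq_top_iff.2 fun z _ => ?_
    let E := IntermediateField.adjoin L (Set.range fun k => i (b k))
    refine (Subfield.closure_le (t := E.toSubfield)).2 ?_ (hgen ▸ Subfield.mem_top z)
    rintro _ (⟨x, rfl⟩ | ⟨x, rfl⟩)
    · rw [← b.sum_repr x, map_sum]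
      refine E.sum_mem fun k _ => ?_
      rw [Algebra.smul_def, map_mul, show i (algebraMap K K' (b.repr x k)) = j (algebraMap K L (b.repr x k)) from
        RingHom.congr_fun hij _]
      exact E.mul_mem (E.algebraMap_mem _) (IntermediateField.subset_adjoin L _ ⟨k, rfl⟩)
    · exact E.algebraMap_mem x
  have hsepi : ∀ x, IsSeparable L (i x) := fun x => by
    refine (Polynomial.Separable.map (f := algebraMap K L) (Algebra.IsSeparable.isSeparable K x)).of_dvd (minpoly.dvd L _ ?_)
    rw [aeval_def, eval₂_map, hjL, ← hij, ← hom_eval₂, ← aeval_def, minpoly.aeval, map_zero]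
  haveI : FiniteDimensional L (IntermediateField.adjoin L (Set.range fun k => i (b k))) :=
    IntermediateField.finiteDimensional_adjoin fun x hx => by
      obtain ⟨k, rfl⟩ := hx
      exact (hsepi _).isIntegral
  haveI : Algebra.IsSeparable L (IntermediateField.adjoin L (Set.range fun k => i (b k))) :=
    (IntermediateField.isSeparable_adjoin_iff_isSeparable L F).2 (by rintro _ ⟨k, rfl⟩; exact hsepi _)
  let eF := (IntermediateField.equivOfEq htop).trans IntermediateField.topEquiv
  haveI : FiniteDimensional L F := eF.toLinearEquiv.finiteDimensional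
  haveI : Algebra.IsSeparable L F := AlgEquiv.Algebra.isSeparable eF
  let n := H9Abh.exponent A (Module.finrank K K')
  have hn : IsUnit (n : A) := H9Abh.exponent_isUnit A _
  have hn0 : 0 < n := H9Abh.exponent_pos A _
  have hgood := H9Abh.good_of_tame A K h (N := Module.finrank K K') le_rfl
  obtain ⟨π, hπ⟩ := IsDiscreteValuationRing.exists_irreducible A
  let Ω := AlgebraicClosure F
  obtain ⟨τ, hτ⟩ := IsAlgClosed.exists_pow_nat_eq (algebraMap L Ω (algebraMap A L π)) hn0
  have hc0 : algebraMap A L π ≠ 0 := by
    rw [IsScalarTower.algebraMap_apply A K L]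
    exact (_root_.map_ne_zero _).2 fun h => hπ.ne_zero (IsFractionRing.injective A K (h.trans (map_zero _).symm))
  have hnL : (n : L) ≠ 0 := by
    have := hn.map (algebraMap A L)
    rw [map_natCast] at this
    exact this.ne_zero
  have hτs : IsSeparable L τ := (separable_X_pow_sub_C _ hnL hc0).of_dvd (minpoly.dvd L τ (by simp [hτ]))
  let L₁ : IntermediateField L Ω := IntermediateField.adjoin L ({τ} : Set Ω)
  haveI : FiniteDimensional L L₁ := IntermediateField.adjoin.finiteDimensional hτs.isIntegral
  haveI : Algebra.IsSeparable L L₁ := (IntermediateField.isSeparable_adjoin_simple_iff_isSeparable L Ω).2 hτs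
  let M : IntermediateField F Ω := IntermediateField.adjoin F ({τ} : Set Ω)
  haveI : FiniteDimensional F M := IntermediateField.adjoin.finiteDimensional hτs.isIntegral.tower_top
  haveI : Algebra.IsSeparable F M :=
    (IntermediateField.isSeparable_adjoin_simple_iff_isSeparable F Ω).2 (IsSeparable.tower_top F hτs)
  haveI : FiniteDimensional L M := FiniteDimensional.trans L F M
  haveI : Algebra.IsSeparable L M := Algebra.IsSeparable.trans L F M
  have hL₁M : L₁ ≤ M.restrictScalars L := IntermediateField.adjoin_le_iff.2 (by
    rintro x rfl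
    exact IntermediateField.mem_adjoin_simple_self F _)
  letI : Algebra L₁ M := (RingHom.codRestrict L₁.val.toRingHom M fun x => hL₁M x.2).toAlgebra
  haveI : IsScalarTower L L₁ M := IsScalarTower.of_algebraMap_eq fun a => Subtype.ext rfl
  refine tame_subextension (K := L) (L := F) (M := M) (tame_composition (L := L₁)
    (tame_of_radical (⟨τ, IntermediateField.mem_adjoin_simple_self L τ⟩ : L₁) n ?_ (algebraMap A L π)
      (Subtype.ext hτ) ?_) fun V hV => ?_)
  · have := hn.map (algebraMap A B)
    rwa [map_natCast] at this
  · apply IntermediateField.map_injective L₁.val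
    rw [IntermediateField.adjoin_map, Set.image_singleton, ← AlgHom.fieldRange_eq_map,
      IntermediateField.fieldRange_val]
    rfl
  haveI : IsDiscreteValuationRing V := isDVR_of_dominates B L V hV
  letI : Algebra B V := (RingHom.codRestrict _ V hV.1).toAlgebra
  haveI : IsLocalHom (algebraMap B V) := isLocalHom_of_dominates _ V hV
  letI : Algebra A V := ((algebraMap B V).comp (algebraMap A B)).toAlgebra
  haveI : IsLocalHom (algebraMap A V) := RingHom.isLocalHom_comp (algebraMap B V) (algebraMap A B)
  have hAV : ∀ a, ((algebraMap A V a : V) : L₁) = algebraMap L L₁ (algebraMap A L a) := fun a => by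
    rw [IsScalarTower.algebraMap_apply A B L]
    rfl
  have hτV : (⟨τ, IntermediateField.mem_adjoin_simple_self L τ⟩ : L₁) ∈ V := by
    have hi : IsIntegral V (⟨τ, IntermediateField.mem_adjoin_simple_self L τ⟩ : L₁) := IsIntegral.of_pow hn0 (by
      rw [show (⟨τ, IntermediateField.mem_adjoin_simple_self L τ⟩ : L₁) ^ n = algebraMap V L₁ (algebraMap A V π) from
        (Subtype.ext hτ).trans (hAV π).symm]
      exact isIntegral_algebraMap)
    obtain ⟨w, hw⟩ := IsIntegrallyClosed.isIntegral_iff.1 hi
    exact hw ▸ w.2
  let g : V →+* M := (algebraMap L₁ M).comp V.subtype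
  let iM : K' →+* M := (algebraMap F M).comp i
  refine tame_of_unramified (fun p hp h => hp.ne_zero (Subtype.ext ((algebraMap L₁ M).injective
    (h.trans (map_zero _).symm)))) (H9Abh.isUnramifiedExt_of_root K iM g
      ((algebraMap L₁ M).injective.comp Subtype.val_injective) ?_ ?_ n hn hπ ⟨_, hτV⟩
      (Subtype.ext ((Subtype.ext hτ).trans (hAV π).symm)) hgood)
  · ext a
    show algebraMap F Ω (i (algebraMap K K' (algebraMap A K a))) = (((algebraMap A V a : V) : L₁) : Ω)
    rw [hAV, show i (algebraMap K K' (algebraMap A K a)) = j (algebraMap K L (algebraMap A K a)) from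
        RingHom.congr_fun hij _, ← IsScalarTower.algebraMap_apply A K L]
    exact (IsScalarTower.algebraMap_apply L F Ω _).symm
  · refine eq_top_iff.2 fun z _ => ?_
    let S := Subfield.closure (Set.range iM ∪ Set.range g)
    have hS1 : ∀ x : L₁, algebraMap L₁ M x ∈ S := fun x => by
      rcases V.mem_or_inv_mem x with hx | hx
      · exact Subfield.subset_closure (Or.inr ⟨⟨x, hx⟩, rfl⟩)
      · have := S.inv_mem (Subfield.subset_closure (Or.inr ⟨⟨x⁻¹, hx⟩, rfl⟩) : algebraMap L₁ M x⁻¹ ∈ S)
        rwa [map_inv₀, inv_inv] at this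
    have hSF : ∀ x : F, algebraMap F M x ∈ S := fun x => by
      refine (Subfield.closure_le (t := S.comap (algebraMap F M))).2 ?_ (hgen ▸ Subfield.mem_top x)
      rintro _ (⟨y, rfl⟩ | ⟨y, rfl⟩)
      · exact Subfield.subset_closure (Or.inl ⟨y, rfl⟩)
      · show algebraMap F M (algebraMap L F y) ∈ S
        rw [← IsScalarTower.algebraMap_apply, IsScalarTower.algebraMap_apply L L₁ M]
        exact hS1 _
    obtain ⟨z, hz⟩ := z
    induction hz using IntermediateField.adjoin_induction with
    | mem x hx =>
      obtain rfl : x = τ := hx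
      exact hS1 ⟨x, IntermediateField.mem_adjoin_simple_self L x⟩
    | algebraMap x => exact hSF x
    | add x y hx hy ihx ihy => exact S.add_mem (ihx trivial) (ihy trivial)
    | inv x hx ih => exact S.inv_mem (ih trivial)
    | mul x y hx hy ihx ihy => exact S.mul_mem (ihx trivial) (ihy trivial)

end Groth.Agent.EtRamLib
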