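import Groth.Agent.EtRamLib.Tower

/-!
# Solutions go down towers
-/

set_option autoImplicit false
set_option linter.style.haveILetI false
universe u

open IsLocalRing TensorProduct

attribute [local instance] Algebra.TensorProduct.rightAlgebra

namespace Groth.Agent.EtRamLib

theorem eq_of_le_of_lt {F : Type u} [Field F] {V V' : ValuationSubring F} (h : V ≤ V')
    (hlt : ∀ x : V, x ∈ maximalIdeal V → V'.valuation (x : F) < 1) : V = V' := by
  refine le_antisymm h fun x hx => ?_
  by_contra hxV
  have hx0 : x ≠ 0 := fun h0 => hxV (h0 ▸ V.zero_mem)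
  have hinv : x⁻¹ ∈ V := (V.mem_or_inv_mem x).resolve_left hxV
  have h1 : V'.valuation x⁻¹ < 1 := hlt ⟨x⁻¹, hinv⟩ ((mem_maximalIdeal _).2 fun hu => hxV (by
    obtain ⟨y, hy⟩ := hu.exists_right_inv
    have h2 : x⁻¹ * (y : F) = 1 := congrArg Subtype.val hy
    exact ((inv_mul_eq_one₀ hx0).1 h2).symm ▸ y.2))
  have h3 : V'.valuation x ≤ 1 := (V'.valuation_le_one_iff _).2 hx
  have h4 : V'.valuation x⁻¹ * V'.valuation x = 1 := by rw [← map_mul, inv_mul_cancel₀ hx0, map_one]
  exact (mul_lt_one_of_lt_of_le h1 h3).ne h4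

variable {K₁ M M' : Type u} [Field K₁] [Field M] [Field M']

theorem weaklyUnramified_descend (j : M →+* M') (W' : ValuationSubring M') (f : K₁ →+* M)
    (h : letI : Algebra (W'.comap (j.comp f)) W' := (EtRam.inclOfComap W' (j.comp f)).toAlgebra
      EtRam.IsWeaklyUnramified (W'.comap (j.comp f)) W') :
    letI : Algebra ((W'.comap j).comap f) (W'.comap j) := (EtRam.inclOfComap (W'.comap j) f).toAlgebra
    EtRam.IsWeaklyUnramified ((W'.comap j).comap f) (W'.comap j) := by
  letI : Algebra ((W'.comap j).comap f) (W'.comap j) := (EtRam.inclOfComap (W'.comap j) f).toAlgebra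
  letI : Algebra (W'.comap (j.comp f)) W' := (EtRam.inclOfComap W' (j.comp f)).toAlgebra
  haveI : IsLocalHom (algebraMap (W'.comap (j.comp f)) W') := EtRam.isLocalHom_inclOfComap W' (j.comp f)
  unfold EtRam.IsWeaklyUnramified at h ⊢
  refine le_antisymm (Ideal.map_le_iff_le_comap.2 fun x hx =>
    map_nonunit (EtRam.inclOfComap (W'.comap j) f) x hx) fun x hx => ?_
  have hx' : EtRam.inclOfComap W' j x ∈ maximalIdeal W' := map_nonunit (EtRam.inclOfComap W' j) x hx
  rw [← h] at hx'
  obtain ⟨v, hv, w, hw⟩ : ∃ v ∈ maximalIdeal (W'.comap (j.comp f)),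
      algebraMap (W'.comap (j.comp f)) W' v ∣ EtRam.inclOfComap W' j x := by
    refine Submodule.span_induction (p := fun y _ => ∃ v ∈ maximalIdeal (W'.comap (j.comp f)),
      algebraMap (W'.comap (j.comp f)) W' v ∣ y) ?_ ?_ ?_ ?_ hx'
    · rintro _ ⟨v, hv, rfl⟩
      exact ⟨v, hv, dvd_rfl⟩
    · exact ⟨0, zero_mem _, dvd_zero _⟩
    · rintro y y' - - ⟨v, hv, hy⟩ ⟨v', hv', hy'⟩
      rcases ValuationRing.dvd_total v v' with hd | hd
      · exact ⟨v, hv, dvd_add hy ((map_dvd _ hd).trans hy')⟩
      · exact ⟨v', hv', dvd_add ((map_dvd _ hd).trans hy) hy'⟩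
    · rintro a y - ⟨v, hv, hy⟩
      exact ⟨v, hv, dvd_mul_of_dvd_right hy a⟩
  rcases eq_or_ne (v : K₁) 0 with h0 | h0
  · have hj : j (x : M) = 0 := by
      have e : j (x : M) = j (f (v : K₁)) * (w : M') := congrArg Subtype.val hw
      rw [e, h0, map_zero, map_zero, zero_mul]
    rw [show x = 0 from Subtype.ext ((map_eq_zero j).1 hj)]
    exact zero_mem _
  have hf0 : f (v : K₁) ≠ 0 := (map_ne_zero f).2 h0
  have e : j (x : M) = j (f (v : K₁)) * (w : M') := congrArg Subtype.val hw
  have hy : (x : M) / f (v : K₁) ∈ W'.comap j := by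
    rw [ValuationSubring.mem_comap, map_div₀, e, mul_div_cancel_left₀ _ ((map_ne_zero j).2 hf0)]
    exact w.2
  rw [show x = algebraMap ((W'.comap j).comap f) (W'.comap j) ⟨(v : K₁), v.2⟩ * ⟨_, hy⟩ from
    Subtype.ext (mul_div_cancel₀ _ hf0).symm]
  exact Ideal.mul_mem_right _ _ (Ideal.mem_map_of_mem _ hv)

theorem geomReduced_descend (j : M →+* M') (W' : ValuationSubring M') (f : K₁ →+* M)
    (h : @Algebra.IsGeometricallyReduced (ResidueField (W'.comap (j.comp f))) (ResidueField W') _ _
        (ResidueField.map (EtRam.inclOfComap W' (j.comp f))).toAlgebra) :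
    @Algebra.IsGeometricallyReduced (ResidueField ((W'.comap j).comap f)) (ResidueField (W'.comap j)) _ _
        (ResidueField.map (EtRam.inclOfComap (W'.comap j) f)).toAlgebra := by
  let k₀ := ResidueField ((W'.comap j).comap f)
  letI a1 : Algebra k₀ (ResidueField (W'.comap j)) :=
    (ResidueField.map (EtRam.inclOfComap (W'.comap j) f)).toAlgebra
  letI a2 : Algebra k₀ (ResidueField W') := (ResidueField.map (EtRam.inclOfComap W' (j.comp f))).toAlgebra
  haveI : Algebra.IsGeometricallyReduced k₀ (ResidueField W') := h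
  let φ : ResidueField (W'.comap j) →ₐ[k₀] ResidueField W' :=
    { ResidueField.map (EtRam.inclOfComap W' j) with
      commutes' := fun y => by
        obtain ⟨a, rfl⟩ := residue_surjective y
        rfl }
  exact Algebra.IsGeometricallyReduced.of_injective φ φ.toRingHom.injective

end Groth.Agent.EtRamLib

namespace Groth.Agent.EtRamLib

/-- A compositum over a larger DVR, with a compatible valuation subring. -/
theorem exists_overfield {B C K L M₀ K₁ M : Type u} [CommRing B] [IsDomain B] [IsDiscreteValuationRing B]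
    [CommRing C] [IsDomain C] [IsDiscreteValuationRing C] [Algebra B C] [IsLocalHom (algebraMap B C)]
    (hinj : Function.Injective (algebraMap B C))
    [Field K] [Field L] [Field M₀] [Field K₁] [Field M] [Algebra K L] [Algebra K M₀] [Algebra L M₀]
    [IsScalarTower K L M₀] [Algebra K K₁] [FiniteDimensional K K₁]
    [Algebra B L] [IsFractionRing B L] [Algebra C M₀] [IsFractionRing C M₀] [Algebra B M₀]
    [IsScalarTower B C M₀] [IsScalarTower B L M₀]
    [Algebra K M] [Algebra L M] [Algebra K₁ M] [IsScalarTower K L M] [IsScalarTower K K₁ M]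
    (hadj : Algebra.adjoin L (Set.range (algebraMap K₁ M)) = ⊤) (W : ValuationSubring M)
    (hW : EtRam.Dominates B ((algebraMap L M).comp (algebraMap B L)) W) :
    ∃ (M' : Type u) (_ : Field M') (_ : Algebra K M') (_ : Algebra M₀ M') (_ : Algebra K₁ M')
      (_ : IsScalarTower K M₀ M') (_ : IsScalarTower K K₁ M') (j : M →+* M') (W' : ValuationSubring M'),
      Algebra.adjoin M₀ (Set.range (algebraMap K₁ M')) = ⊤ ∧
        EtRam.Dominates C ((algebraMap M₀ M').comp (algebraMap C M₀)) W' ∧
        W'.comap j = W ∧ algebraMap K₁ M' = j.comp (algebraMap K₁ M) := by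
  let g : B →+* W := RingHom.codRestrict ((algebraMap L M).comp (algebraMap B L)) W hW.1
  letI : Algebra B W := g.toAlgebra
  haveI : IsLocalHom (algebraMap B W) := ⟨fun a ha => by
    by_contra hna
    exact (mem_maximalIdeal _).1 ((W.valuation_lt_one_iff _).2 (hW.2 a ((mem_maximalIdeal _).2 hna))) ha⟩
  have hBW : Function.Injective (algebraMap B W) := fun a b h =>
    IsFractionRing.injective B L ((algebraMap L M).injective (congrArg Subtype.val h))
  haveI : Module.IsTorsionFree B C := Module.isTorsionFree_iff_algebraMap_injective.2 hinj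
  haveI : Module.IsTorsionFree B W := Module.isTorsionFree_iff_algebraMap_injective.2 hBW
  let T := C ⊗[B] W
  haveI : Module.Flat C T := inferInstance
  haveI : Module.Flat W T := Module.Flat.of_linearEquiv
    (Algebra.TensorProduct.commRight B W C).toLinearEquiv.symm
  -- a prime over both maximal ideals
  let k := ResidueField B
  haveI : Nontrivial (ResidueField C ⊗[k] ResidueField W) :=
    (Algebra.TensorProduct.includeLeft_injective (S := k) (A := ResidueField C) (B := ResidueField W)
      (RingHom.injective _)).nontrivial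
  obtain ⟨N, hN⟩ := Ideal.exists_maximal (ResidueField C ⊗[k] ResidueField W)
  obtain ⟨F, _, a, b, hab, ha, hb⟩ : ∃ (F : Type u) (_ : Field F) (a : C →+* F) (b : W →+* F),
      (∀ x, a (algebraMap B C x) = b (algebraMap B W x)) ∧ (∀ c ∈ maximalIdeal C, a c = 0) ∧
        ∀ w ∈ maximalIdeal W, b w = 0 := by
    refine ⟨(ResidueField C ⊗[k] ResidueField W) ⧸ N, Ideal.Quotient.field N,
      ((Ideal.Quotient.mk N).comp Algebra.TensorProduct.includeLeftRingHom).comp (residue C),
      ((Ideal.Quotient.mk N).comp Algebra.TensorProduct.includeRight.toRingHom).comp (residue W),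
      fun x => ?_, fun c hc => ?_, fun w hw => ?_⟩
    · refine congrArg (Ideal.Quotient.mk N) ?_
      show residue C (algebraMap B C x) ⊗ₜ[k] (1 : ResidueField W) = 1 ⊗ₜ residue W (algebraMap B W x)
      rw [← ResidueField.algebraMap_residue, ← ResidueField.algebraMap_residue, Algebra.algebraMap_eq_smul_one,
        Algebra.algebraMap_eq_smul_one, TensorProduct.smul_tmul]
    · simp [residue_eq_zero_iff _ |>.2 hc]
    · simp [residue_eq_zero_iff _ |>.2 hw]
  letI : Algebra B F := (a.comp (algebraMap B C)).toAlgebra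
  let ψ : T →ₐ[B] F :=
    Algebra.TensorProduct.lift { a with commutes' := fun _ => rfl }
      { b with commutes' := fun x => (hab x).symm } (fun _ _ => Commute.all _ _)
  let Q : Ideal T := RingHom.ker ψ
  haveI : Q.IsPrime := RingHom.ker_isPrime _
  have hQC : ∀ c : C, c ∈ maximalIdeal C → algebraMap C T c ∈ Q := fun c hc => by
    show ψ (c ⊗ₜ[B] (1 : W)) = 0
    rw [Algebra.TensorProduct.lift_tmul]
    show a c * b 1 = 0
    rw [ha c hc, zero_mul]
  have hQW : ∀ w : W, w ∈ maximalIdeal W → algebraMap W T w ∈ Q := fun w hw => by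
    show ψ ((1 : C) ⊗ₜ[B] w) = 0
    rw [Algebra.TensorProduct.lift_tmul]
    show a 1 * b w = 0
    rw [hb w hw, mul_zero]
  haveI : Q.LiesOver (maximalIdeal W) :=
    ⟨(maximalIdeal.isMaximal W).eq_of_le (Ideal.IsPrime.ne_top inferInstance) hQW⟩
  obtain ⟨π, hπ⟩ := IsDiscreteValuationRing.exists_irreducible B
  have hWbot : (⊥ : Ideal W) < maximalIdeal W := bot_lt_iff_ne_bot.2 fun h => by
    have h1 : algebraMap B W π ∈ maximalIdeal W := map_nonunit _ π ((mem_maximalIdeal _).2 hπ.not_isUnit)
    rw [h, Ideal.mem_bot] at h1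
    exact hπ.ne_zero (hBW (h1.trans (map_zero _).symm))
  obtain ⟨P₁, hP₁Q, hP₁, hP₁W⟩ := Ideal.exists_ideal_lt_liesOver_of_lt (S := T) Q hWbot
  obtain ⟨P, hP, hPP₁⟩ := Ideal.exists_minimalPrimes_le (bot_le : (⊥ : Ideal T) ≤ P₁)
  haveI : P.IsPrime := hP.1.1
  have hPW : P.comap (algebraMap W T) = ⊥ := le_bot_iff.1 ((Ideal.comap_mono hPP₁).trans hP₁W.over.ge)
  have hPC : P.comap (algebraMap C T) = ⊥ := by
    by_contra hne
    haveI : P.LiesOver (P.comap (algebraMap C T)) := ⟨rfl⟩
    haveI : (⊥ : Ideal C).IsPrime := Ideal.isPrime_bot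
    obtain ⟨P₂, hlt, hP₂, -⟩ := Ideal.exists_ideal_lt_liesOver_of_lt (S := T) P (bot_lt_iff_ne_bot.2 hne)
    exact hlt.not_ge (hP.2 ⟨hP₂, bot_le⟩ hlt.le)
  -- the field
  let M' := FractionRing (T ⧸ P)
  let θ : T →+* M' := (algebraMap (T ⧸ P) M').comp (Ideal.Quotient.mk P)
  have hθ : ∀ t, θ t = 0 → t ∈ P := fun t ht => by
    rw [← Ideal.Quotient.eq_zero_iff_mem]
    exact IsFractionRing.injective (T ⧸ P) M' (ht.trans (map_zero _).symm)
  have hC : Function.Injective (θ.comp (algebraMap C T)) := (injective_iff_map_eq_zero _).2 fun c hc => by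
    have h1 : c ∈ P.comap (algebraMap C T) := hθ _ hc
    rwa [hPC, Ideal.mem_bot] at h1
  have hWi : Function.Injective (θ.comp (algebraMap W T)) := (injective_iff_map_eq_zero _).2 fun c hc => by
    have h1 : c ∈ P.comap (algebraMap W T) := hθ _ hc
    rwa [hPW, Ideal.mem_bot] at h1
  let j₀ : M₀ →+* M' := IsFractionRing.lift hC
  let j : M →+* M' := IsFractionRing.lift hWi
  have hj₀ : ∀ c, j₀ (algebraMap C M₀ c) = θ (algebraMap C T c) := fun c => IsFractionRing.lift_algebraMap hC c
  have hj : ∀ w : W, j (w : M) = θ (algebraMap W T w) := fun w => IsFractionRing.lift_algebraMap hWi w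
  have hjj : j₀.comp (algebraMap L M₀) = j.comp (algebraMap L M) := by
    refine IsLocalization.ringHom_ext (nonZeroDivisors B) (RingHom.ext fun x => ?_)
    show j₀ (algebraMap L M₀ (algebraMap B L x)) = j (algebraMap L M (algebraMap B L x))
    rw [← IsScalarTower.algebraMap_apply B L M₀, IsScalarTower.algebraMap_apply B C M₀, hj₀]
    refine Eq.trans ?_ (hj (algebraMap B W x)).symm
    congr 1
    show (algebraMap B C x) ⊗ₜ[B] (1 : W) = (1 : C) ⊗ₜ (algebraMap B W x)
    rw [Algebra.algebraMap_eq_smul_one, Algebra.algebraMap_eq_smul_one, TensorProduct.smul_tmul]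
  letI : Algebra M₀ M' := j₀.toAlgebra
  letI : Algebra K M' := (j₀.comp (algebraMap K M₀)).toAlgebra
  letI : Algebra K₁ M' := (j.comp (algebraMap K₁ M)).toAlgebra
  haveI : IsScalarTower K M₀ M' := IsScalarTower.of_algebraMap_eq fun _ => rfl
  haveI : IsScalarTower K K₁ M' := IsScalarTower.of_algebraMap_eq fun x => by
    show j₀ (algebraMap K M₀ x) = j (algebraMap K₁ M (algebraMap K K₁ x))
    rw [← IsScalarTower.algebraMap_apply K K₁ M, IsScalarTower.algebraMap_apply K L M,
      IsScalarTower.algebraMap_apply K L M₀]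
    exact RingHom.congr_fun hjj _
  let S := Algebra.adjoin M₀ (Set.range (algebraMap K₁ M'))
  have hSint : Algebra.IsIntegral M₀ S := by
    refine le_integralClosure_iff_isIntegral.1 (Algebra.adjoin_le ?_)
    rintro _ ⟨x, rfl⟩
    exact ((Algebra.IsIntegral.isIntegral (R := K) x).map (IsScalarTower.toAlgHom K K₁ M')).tower_top
  have hSf : IsField S := isField_of_isIntegral_of_isField' (Field.toIsField M₀)
  have hjS : ∀ m, j m ∈ S := fun m => by
    induction (hadj ▸ Algebra.mem_top : m ∈ Algebra.adjoin L (Set.range (algebraMap K₁ M))) using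
      Algebra.adjoin_induction with
    | mem x hx =>
      obtain ⟨y, rfl⟩ := hx
      exact Algebra.subset_adjoin ⟨y, rfl⟩
    | algebraMap l =>
      rw [← RingHom.comp_apply j, ← hjj]
      exact S.algebraMap_mem _
    | add x y _ _ hx hy => rw [map_add]; exact add_mem hx hy
    | mul x y _ _ hx hy => rw [map_mul]; exact mul_mem hx hy
  have hθS : ∀ t, θ t ∈ S := fun t => by
    induction t using TensorProduct.induction_on with
    | zero => rw [map_zero]; exact zero_mem _
    | tmul c w =>
      rw [show c ⊗ₜ[B] w = algebraMap C T c * algebraMap W T w by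
        show c ⊗ₜ[B] w = (c ⊗ₜ[B] (1 : W)) * ((1 : C) ⊗ₜ[B] w)
        rw [Algebra.TensorProduct.tmul_mul_tmul, mul_one, one_mul], map_mul, ← hj₀, ← hj]
      exact mul_mem (S.algebraMap_mem _) (hjS _)
    | add x y hx hy => rw [map_add]; exact add_mem hx hy
  have htop : S = ⊤ := by
    refine eq_top_iff.2 fun z _ => ?_
    obtain ⟨p, q, hq, rfl⟩ := IsFractionRing.div_surjective (A := T ⧸ P) z
    obtain ⟨p, rfl⟩ := Ideal.Quotient.mk_surjective p
    obtain ⟨q, rfl⟩ := Ideal.Quotient.mk_surjective q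
    have hq0 : θ q ≠ 0 := fun h => nonZeroDivisors.ne_zero hq (Ideal.Quotient.eq_zero_iff_mem.2 (hθ q h))
    obtain ⟨r, hr⟩ := hSf.mul_inv_cancel (a := ⟨θ q, hθS q⟩) fun h => hq0 (congrArg Subtype.val h)
    have hr' : θ q * (r : M') = 1 := congrArg Subtype.val hr
    show θ p / θ q ∈ S
    rw [div_eq_mul_inv, ← eq_inv_of_mul_eq_one_right hr']
    exact mul_mem (hθS p) r.2
  -- the valuation subring
  have hQP : P ≤ Q := hPP₁.trans hP₁Q.le
  let ℓ : Localization.AtPrime Q →+* M' := IsLocalization.lift (M := Q.primeCompl) (g := θ) fun s =>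
    isUnit_iff_ne_zero.2 fun h => s.2 (hQP (hθ _ h))
  obtain ⟨W', hW', hloc⟩ := IsLocalRing.exists_factor_valuationRing ℓ
  have hmem : ∀ t, θ t ∈ W' := fun t => by
    rw [← IsLocalization.lift_eq (M := Q.primeCompl) (S := Localization.AtPrime Q) (g := θ) _ t]
    exact hW' _
  have hlt : ∀ t ∈ Q, W'.valuation (θ t) < 1 := fun t ht => by
    have h1 : algebraMap T (Localization.AtPrime Q) t ∈ maximalIdeal _ :=
      (IsLocalization.AtPrime.to_map_mem_maximal_iff (Localization.AtPrime Q) Q t).2 ht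
    have h2 := (W'.valuation_lt_one_iff ⟨_, hW' (algebraMap T (Localization.AtPrime Q) t)⟩).1
      ((mem_maximalIdeal _).2 fun hu => (mem_maximalIdeal _).1 h1 (hloc.map_nonunit _ hu))
    rwa [show ((⟨_, hW' (algebraMap T (Localization.AtPrime Q) t)⟩ : W') : M') = θ t from
      IsLocalization.lift_eq _ t] at h2
  refine ⟨M', inferInstance, inferInstance, inferInstance, inferInstance, inferInstance, inferInstance, j, W',
    htop, ⟨fun c => ?_, fun c hc => ?_⟩, ?_, rfl⟩
  · show j₀ (algebraMap C M₀ c) ∈ W'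
    rw [hj₀]; exact hmem _
  · show W'.valuation (j₀ (algebraMap C M₀ c)) < 1
    rw [hj₀]; exact hlt _ (hQC c hc)
  · symm
    refine eq_of_le_of_lt (fun x hx => ?_) fun x hx => ?_
    · show j x ∈ W'
      rw [hj ⟨x, hx⟩]; exact hmem _
    · have hxm : j (x : M) ∈ W' := by rw [hj x]; exact hmem _
      refine (W'.comap j |>.valuation_lt_one_iff ⟨(x : M), hxm⟩).1 ((mem_maximalIdeal _).2 fun hu => ?_)
      have h2 := hlt _ (hQW x hx)
      rw [← hj x] at h2
      exact (mem_maximalIdeal _).1 ((W'.valuation_lt_one_iff ⟨j (x : M), hxm⟩).2 h2)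
        (hu.map (EtRam.inclOfComap W' j))

end Groth.Agent.EtRamLib
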