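import Groth.Agent.EtRamLib.UnrBaseChange

/-!
# A Galois extension of degree invertible in the residue field is tame
-/

set_option autoImplicit false
set_option linter.style.haveILetI false
universe u

open IsLocalRing

namespace Groth.Agent.EtRamLib

/-- A finite Galois extension whose group has order invertible in the residue field is tamely ramified. -/
theorem tame_of_galois (A K : Type u) [CommRing A] [IsDomain A] [IsDiscreteValuationRing A] [Field K] [Algebra A K]
    [IsFractionRing A K] {M : Type u} [Field M] [Algebra K M] [FiniteDimensional K M] [IsGalois K M]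
    (hn : ((Nat.card Gal(M/K) : ℕ) : ResidueField A) ≠ 0) :
    EtRam.IsTamelyRamified A ((algebraMap K M).comp (algebraMap A K)) := by
  intro V hV
  letI : Algebra A V := (RingHom.codRestrict _ V hV.1).toAlgebra
  intro _
  letI : Algebra A M := ((algebraMap K M).comp (algebraMap A K)).toAlgebra
  haveI : IsScalarTower A K M := IsScalarTower.of_algebraMap_eq fun _ => rfl
  let C := integralClosure A M
  haveI : IsDedekindDomain C := integralClosure.isDedekindDomain A K M
  haveI : Module.Finite A C := IsIntegralClosure.finite A K M C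
  haveI : IsFractionRing C M := IsIntegralClosure.isFractionRing_of_finite_extension A K M C
  haveI : IsDiscreteValuationRing V := isDVR_of_dominates A K V hV
  have hAC : Function.Injective (algebraMap A C) := fun a b h =>
    IsFractionRing.injective A K ((algebraMap K M).injective (congrArg Subtype.val h))
  have hAV : Function.Injective (algebraMap A V) := fun a b h =>
    IsFractionRing.injective A K ((algebraMap K M).injective (congrArg Subtype.val h))
  haveI := (faithfulSMul_iff_algebraMap_injective A C).2 hAC
  haveI : Module.IsTorsionFree A C := inferInstance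
  haveI := (faithfulSMul_iff_algebraMap_injective A V).2 hAV
  haveI : Module.IsTorsionFree A V := inferInstance
  haveI : Module.Flat A C := inferInstance
  have hCV : ∀ c : C, (c : M) ∈ V := fun c => by
    obtain ⟨P, hP, hPc⟩ := c.2
    have : IsIntegral V (c : M) := ⟨P.map (algebraMap A V), hP.map _, by
      rw [Polynomial.eval₂_map]; exact hPc⟩
    obtain ⟨v, hv⟩ := IsIntegrallyClosed.isIntegral_iff.1 this
    rw [← hv]; exact v.2
  let φ : C →ₐ[A] V := { C.val.toRingHom.codRestrict V hCV with commutes' := fun a => Subtype.ext rfl }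
  letI : Algebra C V := φ.toRingHom.toAlgebra
  haveI : IsScalarTower A C V := IsScalarTower.of_algebraMap_eq fun a => (φ.commutes a).symm
  set P : Ideal C := (maximalIdeal V).comap (Algebra.ofId C V).toRingHom with hP
  haveI : P.LiesOver (maximalIdeal A) := ⟨by
    rw [hP, Ideal.under_def]
    show maximalIdeal A = ((maximalIdeal V).comap φ.toRingHom).comap (algebraMap A C)
    rw [Ideal.comap_comap, show φ.toRingHom.comp (algebraMap A C) = algebraMap A V from RingHom.ext φ.commutes]
    have h04 : IsLocalHom (algebraMap A V) ↔ (maximalIdeal V).comap (algebraMap A V) = maximalIdeal A :=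
      (IsLocalRing.local_hom_TFAE (algebraMap A V)).out 0 4
    exact (h04.1 inferInstance).symm⟩
  haveI : (maximalIdeal V).LiesOver P := ⟨rfl⟩
  haveI : (maximalIdeal V).LiesOver (maximalIdeal A) := Ideal.LiesOver.trans (maximalIdeal V) P (maximalIdeal A)
  haveI : P.IsMaximal := Ideal.IsMaximal.of_liesOver_isMaximal P (maximalIdeal A)
  have hA0 : maximalIdeal A ≠ ⊥ := IsDiscreteValuationRing.not_a_field A
  have hne : P ≠ ⊥ := Ideal.ne_bot_of_liesOver_of_ne_bot hA0 P
  haveI := IsLocalization.AtPrime.isDiscreteValuationRing_of_dedekind_domain C hne (Localization.AtPrime P)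
  obtain ⟨Φ, hΦ, hΦl⟩ := exists_surjective_of_center (A := C) V (Algebra.ofId C V) (fun _ => rfl)
    (by show ValuationRing (Localization.AtPrime P); infer_instance)
  -- ramification
  haveI : Algebra.FormallyUnramified C (Localization.AtPrime P) := .of_isLocalization P.primeCompl
  haveI : Algebra.EssFiniteType C (Localization.AtPrime P) := .of_isLocalization _ P.primeCompl
  haveI : Algebra.FormallyUnramified C V := Algebra.FormallyUnramified.of_surjective Φ hΦ
  haveI : Algebra.EssFiniteType C V := Algebra.EssFiniteType.of_surjective Φ hΦ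
  haveI : Algebra.FormallyUnramified V (Localization.AtPrime (maximalIdeal V)) :=
    .of_isLocalization (maximalIdeal V).primeCompl
  haveI : Algebra.IsUnramifiedAt C (maximalIdeal V) := Algebra.FormallyUnramified.comp C V _
  haveI : Module.Flat C V := by
    haveI := (faithfulSMul_iff_algebraMap_injective C V).2 (fun a b h => Subtype.ext (congrArg (fun v : V => (v : M)) h))
    infer_instance
  have he : Ideal.ramificationIdx' (maximalIdeal A) (maximalIdeal V) = P.ramificationIdx A := by
    rw [Ideal.ramificationIdx'_eq_ramificationIdx _ _ hA0, Ideal.ramificationIdx_tower P (maximalIdeal V),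
      Ideal.ramificationIdx_eq_one (maximalIdeal V) C, mul_one]
  -- inertia
  let ψ : C →+* ResidueField V := (residue V).comp φ.toRingHom
  have hψ : Function.Surjective ψ := by
    intro x
    obtain ⟨v, rfl⟩ := residue_surjective x
    obtain ⟨y, rfl⟩ := hΦ v
    obtain ⟨c, s, rfl⟩ := IsLocalization.exists_mk'_eq P.primeCompl y
    obtain ⟨t, ht⟩ : ∃ t, (s : C) * t - 1 ∈ P := by
      obtain ⟨t, i, hi, hti⟩ := ((inferInstance : P.IsMaximal).exists_inv s.2)
      exact ⟨t, by rw [show (s : C) * t - 1 = -i by linear_combination hti]; exact P.neg_mem hi⟩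
    refine ⟨c * t, ?_⟩
    have h1 : ψ (s : C) * residue V (Φ (IsLocalization.mk' _ c s)) = ψ c := by
      show residue V (φ (s : C)) * _ = residue V (φ c)
      rw [← map_mul]
      refine congrArg _ ?_
      have h2 := congrArg Φ (IsLocalization.mk'_spec' (Localization.AtPrime P) c s)
      rw [map_mul, AlgHom.commutes, AlgHom.commutes] at h2
      exact h2
    have h3 : ψ (s : C) * ψ t = 1 := by
      rw [← map_mul, ← sub_eq_zero, ← map_one ψ, ← map_sub]
      exact (residue_eq_zero_iff _).2 ht
    rw [map_mul, ← h1, mul_comm (ψ (s : C)), mul_assoc, h3, mul_one]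
  have hker : RingHom.ker ψ = P := by
    ext c
    rw [RingHom.mem_ker]
    exact residue_eq_zero_iff _
  let σ : (C ⧸ P) ≃+* ResidueField V :=
    (Ideal.quotEquivOfEq hker.symm).trans (RingHom.quotientKerEquivOfSurjective hψ)
  letI : Algebra (C ⧸ P) (ResidueField V) := σ.toRingHom.toAlgebra
  haveI : IsFractionRing (C ⧸ P) (ResidueField V) := by
    haveI := (faithfulSMul_iff_algebraMap_injective (C ⧸ P) (ResidueField V)).2 σ.injective
    exact IsFractionRing.of_field _ _ fun z => ⟨σ.symm z, 1, by
      rw [map_one, div_one]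
      exact (σ.apply_symm_apply z).symm⟩
  have hf : P.inertiaDeg A = Module.finrank (ResidueField A) (ResidueField V) := by
    haveI : IsScalarTower C (C ⧸ P) (ResidueField V) := ⟨fun c x z => by
      obtain ⟨x, rfl⟩ := Ideal.Quotient.mk_surjective x
      show σ (Ideal.Quotient.mk P (c * x)) * z = c • (σ (Ideal.Quotient.mk P x) * z)
      rw [map_mul, map_mul, Algebra.smul_def, mul_assoc]
      rfl⟩
    let τ : (A ⧸ maximalIdeal A) →+* ResidueField A := RingHom.id _
    letI : Algebra (A ⧸ maximalIdeal A) (ResidueField A) := τ.toAlgebra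
    haveI : IsScalarTower A (A ⧸ maximalIdeal A) (ResidueField A) := ⟨fun a x z => by
      obtain ⟨x, rfl⟩ := Ideal.Quotient.mk_surjective x
      obtain ⟨z, rfl⟩ := residue_surjective z
      show residue A (a * x) * residue A z = a • (residue A x * residue A z)
      rw [map_mul, Algebra.smul_def, mul_assoc]
      rfl⟩
    haveI : IsFractionRing (A ⧸ maximalIdeal A) (ResidueField A) := by
      haveI := (faithfulSMul_iff_algebraMap_injective (A ⧸ maximalIdeal A) (ResidueField A)).2 fun x y h => h
      exact IsFractionRing.of_field _ _ fun z => ⟨z, 1, by rw [map_one, div_one]; rfl⟩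
    exact Ideal.inertiaDeg_eq_of_isFractionRing (maximalIdeal A) P (ResidueField A) (ResidueField V)
  -- the fundamental identity
  letI : MulSemiringAction Gal(M/K) C := IsIntegralClosure.MulSemiringAction A K M C
  haveI : IsGaloisGroup Gal(M/K) A C := IsGaloisGroup.of_isFractionRing _ _ _ K M
  have hid := Ideal.ncard_primesOver_mul_ramificationIdxIn_mul_inertiaDegIn (maximalIdeal A) C Gal(M/K)
  rw [Ideal.ramificationIdxIn_eq_ramificationIdx (maximalIdeal A) P Gal(M/K),
    Ideal.inertiaDegIn_eq_inertiaDeg (maximalIdeal A) P Gal(M/K), hf, ← he] at hid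
  have hndvd : ∀ p : ℕ, CharP (ResidueField A) p → ∀ d : ℕ, d ∣ Nat.card Gal(M/K) → p ∣ d → False := by
    intro p hp d hd hpd
    exact hn ((CharP.cast_eq_zero_iff (ResidueField A) p _).2 (hpd.trans hd))
  refine ⟨?_, fun p hp hc hd => hndvd p hc _ (hid ▸ ((dvd_mul_right _ _).trans (dvd_mul_left _ _))) hd⟩
  -- separability
  have hfdvd : Module.finrank (ResidueField A) (ResidueField V) ∣ Nat.card Gal(M/K) :=
    hid ▸ ((dvd_mul_left _ _).trans (dvd_mul_left _ _))
  haveI : FiniteDimensional (ResidueField A) (ResidueField V) := FiniteDimensional.of_finrank_pos (Nat.pos_of_ne_zero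
    fun h0 => (Nat.card_pos (α := Gal(M/K))).ne' (Nat.eq_zero_of_zero_dvd (h0 ▸ hfdvd)))
  obtain ⟨q, hq⟩ := ExpChar.exists (ResidueField A)
  rw [isSeparable_iff_finInsepDegree_eq_one]
  obtain ⟨k, hk⟩ := finInsepDegree_eq_pow (ResidueField A) (ResidueField V) q
  rcases k with - | k
  · rw [hk, pow_zero]
  cases hq with
  | zero => rw [hk, one_pow]
  | prime hq =>
    have hsep : Field.finInsepDegree (ResidueField A) (ResidueField V) ∣ Module.finrank (ResidueField A) (ResidueField V) :=
      ⟨_, by rw [← Field.finSepDegree_mul_finInsepDegree (ResidueField A) (ResidueField V), mul_comm]⟩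
    exact (hndvd q inferInstance _ hfdvd ((dvd_pow_self q k.succ_ne_zero).trans (hk ▸ hsep))).elim

end Groth.Agent.EtRamLib
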