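import Groth.Agent.S1987
import Groth.Agent.EtRamLib.RadicalBase

/-!
# Tame extensions and roots of a uniformizer
-/

set_option autoImplicit false
set_option linter.style.haveILetI false
universe u

open IsLocalRing Polynomial

noncomputable section

namespace Groth.Agent.EtRamLib

variable {A : Type u} [CommRing A] [IsDomain A] [IsDiscreteValuationRing A] {π : A} {e : ℕ}

theorem root_dvr (hπ : Irreducible π) (he : 0 < e) :
    ∃ _ : IsDomain (AdjoinRoot (X ^ e - C π : A[X])), IsDiscreteValuationRing (AdjoinRoot (X ^ e - C π : A[X])) := by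
  rcases Nat.lt_or_ge e 2 with h | h
  · obtain rfl : e = 1 := by omega
    let eq : AdjoinRoot (X ^ 1 - C π : A[X]) ≃+* A :=
      (Ideal.quotEquivOfEq (congrArg (fun p : A[X] => Ideal.span {p}) (by rw [pow_one]))).trans
        (Polynomial.quotientSpanXSubCAlgEquiv π).toRingEquiv
    haveI : IsDomain (AdjoinRoot (X ^ 1 - C π : A[X])) := MulEquiv.isDomain A eq.toMulEquiv
    exact ⟨inferInstance, IsDiscreteValuationRing.RingEquivClass.isDiscreteValuationRing eq.symm⟩
  · obtain ⟨-, h1, h2, -⟩ := S1987.result A π hπ e h
    exact ⟨h1, h2⟩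

theorem root_pow : (AdjoinRoot.root (X ^ e - C π : A[X])) ^ e = algebraMap A _ π := by
  have := AdjoinRoot.eval₂_root (X ^ e - C π : A[X])
  simp only [eval₂_sub, eval₂_pow, eval₂_X, eval₂_C, sub_eq_zero] at this
  exact this

theorem root_split (b : AdjoinRoot (X ^ e - C π : A[X])) :
    ∃ (a : A) (b' : AdjoinRoot (X ^ e - C π : A[X])), b = algebraMap A _ a + AdjoinRoot.root _ * b' := by
  obtain ⟨P, rfl⟩ := AdjoinRoot.mk_surjective b
  refine ⟨P.coeff 0, AdjoinRoot.mk _ P.divX, ?_⟩
  conv_lhs => rw [← X_mul_divX_add P, map_add, map_mul, AdjoinRoot.mk_X, AdjoinRoot.mk_C]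
  rw [add_comm]; rfl

theorem root_finite (he : 0 < e) : Module.Finite A (AdjoinRoot (X ^ e - C π : A[X])) :=
  (monic_X_pow_sub_C π he.ne').finite_adjoinRoot

theorem root_isLocalHom (he : 0 < e) : IsLocalHom (algebraMap A (AdjoinRoot (X ^ e - C π : A[X]))) := by
  haveI := root_finite (π := π) he
  exact RingHom.IsIntegral.isLocalHom (Algebra.IsIntegral.isIntegral) (AdjoinRoot.of.injective_of_degree_ne_zero
    (by rw [degree_X_pow_sub_C he]; exact_mod_cast he.ne'))

theorem root_injective (hπ : Irreducible π) (he : 0 < e) {F : Type u} [Field F]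
    (g : AdjoinRoot (X ^ e - C π : A[X]) →+* F)
    (hg : Function.Injective (g.comp (AdjoinRoot.of (X ^ e - C π)))) : Function.Injective g := by
  obtain ⟨_, _⟩ := root_dvr hπ he
  haveI := root_finite (π := π) he
  rw [RingHom.injective_iff_ker_eq_bot]
  refine Ideal.eq_bot_of_comap_eq_bot (R := A) ?_
  rw [RingHom.comap_ker, ← RingHom.injective_iff_ker_eq_bot]
  exact hg

variable {K L : Type u} [Field K] [Algebra A K] [IsFractionRing A K] [Field L] [Algebra K L]
  [FiniteDimensional K L] [Algebra.IsSeparable K L]

/-- Roots of a uniformizer of suitable order kill tame ramification. -/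
theorem exists_unramified_over_root (hπ : Irreducible π) (he : 0 < e) (hu : IsUnit (e : A))
    (hgood : H9Abh.Good A ((algebraMap K L).comp (algebraMap A K)) e) :
    ∃ (L' : Type u) (_ : Field L') (_ : Algebra K L')
      (_ : Algebra (AdjoinRoot (X ^ e - C π : A[X])) L') (_ : L →ₐ[K] L'),
      FiniteDimensional K L' ∧ Algebra.IsSeparable K L' ∧
      (algebraMap (AdjoinRoot (X ^ e - C π : A[X])) L').comp (AdjoinRoot.of (X ^ e - C π)) =
        (algebraMap K L').comp (algebraMap A K) ∧
      ∀ [IsLocalRing (AdjoinRoot (X ^ e - C π : A[X]))],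
        EtRam.IsUnramifiedExt (AdjoinRoot (X ^ e - C π : A[X]))
          (algebraMap (AdjoinRoot (X ^ e - C π : A[X])) L') := by
  let Ω := AlgebraicClosure L
  let c : K := algebraMap A K π
  obtain ⟨τ, hτ⟩ := IsAlgClosed.exists_pow_nat_eq (algebraMap K Ω c) he
  have hc0 : c ≠ 0 := fun h => hπ.ne_zero (IsFractionRing.injective A K (h.trans (map_zero _).symm))
  have heK : (e : K) ≠ 0 := by
    have := hu.map (algebraMap A K)
    rw [map_natCast] at this
    exact this.ne_zero
  have hτs : IsSeparable K τ := (separable_X_pow_sub_C _ heK hc0).of_dvd (minpoly.dvd K τ (by simp [hτ]))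
  let M : IntermediateField L Ω := IntermediateField.adjoin L ({τ} : Set Ω)
  haveI : FiniteDimensional L M := IntermediateField.adjoin.finiteDimensional hτs.isIntegral.tower_top
  haveI : Algebra.IsSeparable L M :=
    (IntermediateField.isSeparable_adjoin_simple_iff_isSeparable L Ω).2 (IsSeparable.tower_top L hτs)
  let tM : M := ⟨τ, IntermediateField.mem_adjoin_simple_self L τ⟩
  let gA : A →+* M := (algebraMap K M).comp (algebraMap A K)
  have hlift : eval₂ gA tM (X ^ e - C π) = 0 := by
    rw [eval₂_sub, eval₂_pow, eval₂_X, eval₂_C, sub_eq_zero]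
    exact Subtype.ext hτ
  let g : AdjoinRoot (X ^ e - C π : A[X]) →+* M := AdjoinRoot.lift gA tM hlift
  letI : Algebra (AdjoinRoot (X ^ e - C π : A[X])) M := g.toAlgebra
  have hcomp : g.comp (AdjoinRoot.of (X ^ e - C π)) = gA := RingHom.ext fun _ => AdjoinRoot.lift_of hlift
  refine ⟨M, inferInstance, inferInstance, inferInstance, IsScalarTower.toAlgHom K L M,
    FiniteDimensional.trans K L M, Algebra.IsSeparable.trans K L M, hcomp, fun {_} => ?_⟩
  obtain ⟨_, _⟩ := root_dvr hπ he
  haveI := root_isLocalHom (π := π) he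
  have hgi : Function.Injective g := root_injective hπ he g (by
    rw [hcomp]; exact (algebraMap K M).injective.comp (IsFractionRing.injective A K))
  refine H9Abh.isUnramifiedExt_of_root K (algebraMap L M) g hgi ?_ ?_ e hu hπ _ root_pow hgood
  · rw [show g.comp (algebraMap A (AdjoinRoot (X ^ e - C π : A[X]))) = gA from hcomp, ← RingHom.comp_assoc,
      ← IsScalarTower.algebraMap_eq]
  · refine eq_top_iff.2 fun z _ => ?_
    let S := Subfield.closure (Set.range (algebraMap L M) ∪ Set.range g)
    obtain ⟨z, hz⟩ := z
    induction hz using IntermediateField.adjoin_induction with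
    | mem x hx =>
      obtain rfl : x = τ := hx
      exact Subfield.subset_closure (Or.inr ⟨AdjoinRoot.root _, AdjoinRoot.lift_root _⟩)
    | algebraMap x => exact Subfield.subset_closure (Or.inl ⟨x, rfl⟩)
    | add x y hx hy ihx ihy => exact S.add_mem (ihx trivial) (ihy trivial)
    | inv x hx ih => exact S.inv_mem (ih trivial)
    | mul x y hx hy ihx ihy => exact S.mul_mem (ihx trivial) (ihy trivial)

/-- Extensions unramified over a root of the uniformizer of order prime to the residue characteristic are tame. -/
theorem tame_of_unramified_over_root (hπ : Irreducible π) (he : 0 < e) (hu : IsUnit (e : A))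
    {L' : Type u} [Field L'] [Algebra K L'] [Algebra (AdjoinRoot (X ^ e - C π : A[X])) L'] (f : L →ₐ[K] L')
    [FiniteDimensional K L'] [Algebra.IsSeparable K L']
    (hg : (algebraMap (AdjoinRoot (X ^ e - C π : A[X])) L').comp (AdjoinRoot.of (X ^ e - C π)) =
      (algebraMap K L').comp (algebraMap A K))
    (h : ∀ [IsLocalRing (AdjoinRoot (X ^ e - C π : A[X]))],
      EtRam.IsUnramifiedExt (AdjoinRoot (X ^ e - C π : A[X]))
        (algebraMap (AdjoinRoot (X ^ e - C π : A[X])) L')) :
    EtRam.IsTamelyRamified A ((algebraMap K L).comp (algebraMap A K)) := by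
  obtain ⟨_, _⟩ := root_dvr hπ he
  let A' := AdjoinRoot (X ^ e - C π : A[X])
  let g := algebraMap A' L'
  have hgi : Function.Injective g := root_injective hπ he g (by
    rw [hg]; exact (algebraMap K L').injective.comp (IsFractionRing.injective A K))
  let K₁ := FractionRing A'
  letI : Algebra K₁ L' := (IsFractionRing.lift hgi).toAlgebra
  have hAinj : Function.Injective ((algebraMap A' K₁).comp (algebraMap A A')) :=
    (IsFractionRing.injective A' K₁).comp (AdjoinRoot.of.injective_of_degree_ne_zero
      (by rw [degree_X_pow_sub_C he]; exact_mod_cast he.ne'))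
  letI : Algebra K K₁ := (IsFractionRing.lift (K := K) hAinj).toAlgebra
  have hKK₁ : ∀ a : A, algebraMap K K₁ (algebraMap A K a) = algebraMap A' K₁ (algebraMap A A' a) :=
    fun a => IsFractionRing.lift_algebraMap hAinj a
  have hK₁L : ∀ b : A', algebraMap K₁ L' (algebraMap A' K₁ b) = g b := fun b => IsFractionRing.lift_algebraMap hgi b
  haveI : IsScalarTower K K₁ L' := IsScalarTower.of_algebraMap_eq' (IsLocalization.ringHom_ext (nonZeroDivisors A)
    (RingHom.ext fun a => ((congrArg (algebraMap K₁ L') (hKK₁ a)).trans ((hK₁L _).trans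
      (RingHom.congr_fun hg a))).symm))
  haveI : FiniteDimensional K K₁ := FiniteDimensional.left K K₁ L'
  haveI : Algebra.IsSeparable K K₁ := Algebra.isSeparable_tower_bot_of_isSeparable K K₁ L'
  haveI : FiniteDimensional K₁ L' := FiniteDimensional.right K K₁ L'
  haveI : Algebra.IsSeparable K₁ L' := Algebra.isSeparable_tower_top_of_isSeparable K K₁ L'
  let t : K₁ := algebraMap A' K₁ (AdjoinRoot.root _)
  have ht : t ^ e = algebraMap K K₁ (algebraMap A K π) := by
    rw [hKK₁, ← root_pow (e := e), map_pow]
  have htop : IntermediateField.adjoin K ({t} : Set K₁) = ⊤ := by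
    have hmem : ∀ b : A', algebraMap A' K₁ b ∈ IntermediateField.adjoin K ({t} : Set K₁) := fun b => by
      induction b using AdjoinRoot.induction_on with
      | ih P =>
        induction P using Polynomial.induction_on' with
        | add p q hp hq => rw [map_add, map_add]; exact add_mem hp hq
        | monomial n a =>
          rw [← C_mul_X_pow_eq_monomial, map_mul, map_pow, AdjoinRoot.mk_X, AdjoinRoot.mk_C, map_mul, map_pow,
            show algebraMap A' K₁ (AdjoinRoot.of _ a) = algebraMap K K₁ (algebraMap A K a) from (hKK₁ a).symm]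
          exact mul_mem (IntermediateField.algebraMap_mem _ _) (pow_mem (IntermediateField.mem_adjoin_simple_self K t) n)
    refine eq_top_iff.2 fun z _ => ?_
    obtain ⟨a, b, -, rfl⟩ := IsFractionRing.div_surjective (A := A') z
    exact div_mem (hmem a) (hmem b)
  letI : Algebra L L' := f.toRingHom.toAlgebra
  haveI : IsScalarTower K L L' := IsScalarTower.of_algebraMap_eq fun c => (f.commutes c).symm
  refine tame_subextension (M := L') (tame_composition (L := K₁) (tame_of_radical t e hu _ ht htop) fun V hV => ?_)
  haveI : IsDiscreteValuationRing V := isDVR_of_dominates A K V hV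
  have ht1 : V.valuation t < 1 := by
    have h1 := hV.2 π ((mem_maximalIdeal _).2 hπ.not_isUnit)
    rw [RingHom.comp_apply, ← ht, map_pow] at h1
    exact not_le.1 fun hle => (one_le_pow₀ hle).not_gt h1
  have htV : t ∈ V := (V.valuation_le_one_iff t).1 ht1.le
  have hA'V : ∀ b : A', algebraMap A' K₁ b ∈ V := fun b => by
    induction b using AdjoinRoot.induction_on with
    | ih P =>
      induction P using Polynomial.induction_on' with
      | add p q hp hq => rw [map_add, map_add]; exact add_mem hp hq
      | monomial n a =>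
        rw [← C_mul_X_pow_eq_monomial, map_mul, map_pow, AdjoinRoot.mk_X, AdjoinRoot.mk_C, map_mul, map_pow,
          show algebraMap A' K₁ (AdjoinRoot.of _ a) = algebraMap K K₁ (algebraMap A K a) from (hKK₁ a).symm]
        exact mul_mem (hV.1 a) (pow_mem htV n)
  letI : Algebra A' V := (RingHom.codRestrict (algebraMap A' K₁) V hA'V).toAlgebra
  haveI : IsScalarTower A' V K₁ := IsScalarTower.of_algebraMap_eq fun _ => rfl
  haveI : IsLocalHom (algebraMap A' V) := ⟨fun b hb => by
    by_contra hnb
    obtain ⟨a, b', hab⟩ := root_split b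
    have hr : AdjoinRoot.root _ ∈ maximalIdeal A' := (mem_maximalIdeal _).2 fun hu' => by
      haveI := root_isLocalHom (π := π) he
      exact hπ.not_isUnit (isUnit_of_map_unit (algebraMap A A') π (by rw [← root_pow (A := A) (π := π) (e := e)]; exact hu'.pow e))
    have ha : a ∈ maximalIdeal A := (mem_maximalIdeal _).2 fun hu' => (mem_maximalIdeal _).1
      (show algebraMap A A' a ∈ maximalIdeal A' from by
        have := Ideal.sub_mem _ ((mem_maximalIdeal b).2 hnb) (Ideal.mul_mem_right b' _ hr)
        rwa [hab, add_sub_cancel_right] at this) (hu'.map _)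
    have h2 : algebraMap A' V b ∈ maximalIdeal V := by
      rw [hab, map_add, map_mul]
      refine add_mem ?_ (Ideal.mul_mem_right _ _ ((V.valuation_lt_one_iff _).2 ht1))
      refine (V.valuation_lt_one_iff _).2 ?_
      show V.valuation (algebraMap A' K₁ (algebraMap A A' a)) < 1
      rw [← hKK₁]
      exact hV.2 a ha
    exact (mem_maximalIdeal _).1 h2 hb⟩
  have hunr : EtRam.IsUnramifiedExt A' ((algebraMap K₁ L').comp (algebraMap A' K₁)) := by
    rw [show (algebraMap K₁ L').comp (algebraMap A' K₁) = g from RingHom.ext hK₁L]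
    exact h
  exact tame_of_unramified (A := V) (g := (algebraMap K₁ L').comp V.subtype)
    (fun p hp h0 => hp.ne_zero (Subtype.ext ((algebraMap K₁ L').injective (h0.trans (map_zero _).symm))))
    (unramified_base_change A' K₁ (B := V) (L := K₁) hunr (RingHom.id L') (algebraMap K₁ L')
    (RingHom.ext fun _ => rfl) (eq_top_iff.2 fun z _ => Subfield.subset_closure (Or.inl ⟨z, rfl⟩)))

end Groth.Agent.EtRamLib
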