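import Groth.Prelude.Def_EtRam
import Mathlib

/-!
# Ramification in towers of valuation subrings
-/

set_option autoImplicit false
set_option linter.style.haveILetI false
universe u

open IsLocalRing

namespace Groth.Agent.EtRamLib

/-- Valuation subrings of a finite separable extension dominating a DVR are DVRs. -/
theorem isDVR_of_dominates (A K : Type u) [CommRing A] [IsDomain A] [IsDiscreteValuationRing A]
    [Field K] [Algebra A K] [IsFractionRing A K] {L : Type u} [Field L] [Algebra K L] [FiniteDimensional K L]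
    [Algebra.IsSeparable K L] (V : ValuationSubring L)
    (hV : EtRam.Dominates A ((algebraMap K L).comp (algebraMap A K)) V) : IsDiscreteValuationRing V := by
  letI : Algebra A L := ((algebraMap K L).comp (algebraMap A K)).toAlgebra
  haveI : IsScalarTower A K L := IsScalarTower.of_algebraMap_eq fun _ => rfl
  let C := integralClosure A L
  haveI : IsDedekindDomain C := integralClosure.isDedekindDomain A K L
  have hCV : ∀ c : C, (c : L) ∈ V := fun c => by
    obtain ⟨P, hP, hPc⟩ := c.2
    let g' : A →+* V := (algebraMap A L).codRestrict V hV.1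
    have : IsIntegral V (c : L) := ⟨P.map g', hP.map g', by
      rw [Polynomial.eval₂_map]; exact hPc⟩
    obtain ⟨v, hv⟩ := IsIntegrallyClosed.isIntegral_iff.1 this
    rw [← hv]; exact v.2
  let ι : C →+* V := C.val.toRingHom.codRestrict V hCV
  let P : Ideal C := (maximalIdeal V).comap ι
  haveI : P.IsPrime := Ideal.IsPrime.comap ι
  obtain ⟨π, hπ⟩ := IsDiscreteValuationRing.exists_irreducible A
  have hπ0 : algebraMap A L π ≠ 0 :=
    fun h => hπ.ne_zero (IsFractionRing.injective A K ((algebraMap K L).injective (by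
      rw [map_zero, map_zero]; exact h)))
  have hPbot : P ≠ ⊥ := fun h => by
    have hm : algebraMap A C π ∈ P := by
      show ι _ ∈ maximalIdeal V
      rw [V.valuation_lt_one_iff]
      exact hV.2 π ((mem_maximalIdeal _).2 hπ.not_isUnit)
    rw [h, Ideal.mem_bot] at hm
    exact hπ0 (congrArg Subtype.val hm)
  let Loc := Localization.AtPrime P
  haveI : IsDiscreteValuationRing Loc :=
    IsLocalization.AtPrime.isDiscreteValuationRing_of_dedekind_domain C hPbot Loc
  haveI : IsFractionRing C L := IsIntegralClosure.isFractionRing_of_finite_extension A K L C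
  have hunit : ∀ s : P.primeCompl, IsUnit (C.val.toRingHom (s : C)) := fun s =>
    isUnit_iff_ne_zero.2 fun h => s.2 ((show (s : C) = 0 from Subtype.ext h) ▸ P.zero_mem)
  letI : Algebra Loc L := (IsLocalization.lift hunit).toAlgebra
  haveI : IsScalarTower C Loc L := IsScalarTower.of_algebraMap_eq fun c => (IsLocalization.lift_eq hunit c).symm
  haveI : IsFractionRing Loc L := IsFractionRing.isFractionRing_of_isDomain_of_isLocalization P.primeCompl Loc L
  have hmem : ∀ b : Loc, algebraMap Loc L b ∈ V := fun b => by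
    obtain ⟨c, s, rfl⟩ := IsLocalization.exists_mk'_eq P.primeCompl b
    have hs : IsUnit (ι (s : C)) := notMem_maximalIdeal.1 s.2
    obtain ⟨t, ht⟩ := hs.exists_right_inv
    have e : algebraMap Loc L (IsLocalization.mk' Loc c s) = ((ι c * t : V) : L) := by
      have h1 := congrArg (algebraMap Loc L) (IsLocalization.mk'_spec Loc c s)
      rw [map_mul, ← IsScalarTower.algebraMap_apply, ← IsScalarTower.algebraMap_apply] at h1
      have h2 : ((s : C) : L) * (t : L) = 1 := congrArg Subtype.val ht
      calc algebraMap Loc L (IsLocalization.mk' Loc c s)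
          = algebraMap Loc L (IsLocalization.mk' Loc c s) * (((s : C) : L) * (t : L)) := by rw [h2, mul_one]
        _ = (algebraMap Loc L (IsLocalization.mk' Loc c s) * ((s : C) : L)) * (t : L) := (mul_assoc _ _ _).symm
        _ = (c : L) * (t : L) := congrArg (· * (t : L)) h1
    rw [e]
    exact (ι c * t).2
  let Φ : Loc →+* V := (algebraMap Loc L).codRestrict V hmem
  have hloc : IsLocalHom Φ := ⟨fun b hb => by
    by_contra hnb
    obtain ⟨c, s, rfl⟩ := IsLocalization.exists_mk'_eq P.primeCompl b
    have hcP : c ∈ P := (IsLocalization.AtPrime.mk'_mem_maximal_iff Loc P c s).1 ((mem_maximalIdeal _).2 hnb)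
    have e : Φ (IsLocalization.mk' Loc c s) * ι (s : C) = ι c := Subtype.ext (by
      have h1 := congrArg (algebraMap Loc L) (IsLocalization.mk'_spec Loc c s)
      rw [map_mul, ← IsScalarTower.algebraMap_apply, ← IsScalarTower.algebraMap_apply] at h1
      exact h1)
    exact (mem_maximalIdeal _).1 hcP (e ▸ hb.mul (notMem_maximalIdeal.1 s.2))⟩
  have hsurj : Function.Surjective Φ := fun x => by
    rcases ValuationRing.isInteger_or_isInteger Loc (x : L) with ⟨b, hb⟩ | ⟨b, hb⟩
    · exact ⟨b, Subtype.ext hb⟩
    rcases eq_or_ne (x : L) 0 with h0 | h0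
    · exact ⟨0, by rw [map_zero]; exact Subtype.ext h0.symm⟩
    have he : Φ b * x = 1 := Subtype.ext (by
      show algebraMap Loc L b * (x : L) = 1
      rw [hb, inv_mul_cancel₀ h0])
    obtain ⟨u, rfl⟩ := hloc.map_nonunit b (IsUnit.of_mul_eq_one _ he)
    exact ⟨↑u⁻¹, mul_left_cancel₀ (left_ne_zero_of_mul_eq_one he) (by
      rw [he, ← map_mul, Units.mul_inv, map_one])⟩
  have hinj : Function.Injective Φ := fun a b h =>
    IsFractionRing.injective Loc L (congrArg Subtype.val h)
  exact IsDiscreteValuationRing.RingEquivClass.isDiscreteValuationRing (RingEquiv.ofBijective Φ ⟨hinj, hsurj⟩)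

section Tower

variable {A : Type u} [CommRing A] [IsLocalRing A] {L M : Type u} [Field L] [Field M] [Algebra L M]
  (g : A →+* L)

theorem dominates_comap {W : ValuationSubring M} (hW : EtRam.Dominates A ((algebraMap L M).comp g) W) :
    EtRam.Dominates A g (W.comap (algebraMap L M)) := by
  refine ⟨fun a => hW.1 a, fun a ha => ?_⟩
  let x : W.comap (algebraMap L M) := ⟨g a, hW.1 a⟩
  refine ((W.comap (algebraMap L M)).valuation_lt_one_iff x).1 ((mem_maximalIdeal _).2 fun hu => ?_)
  have hu' := hu.map (EtRam.inclOfComap W (algebraMap L M))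
  exact (mem_maximalIdeal _).1
    ((W.valuation_lt_one_iff (EtRam.inclOfComap W (algebraMap L M) x)).2 (hW.2 a ha)) hu'

/-- Every dominating valuation subring below extends. -/
theorem exists_above (V : ValuationSubring L) (hV : EtRam.Dominates A g V) :
    ∃ W : ValuationSubring M, EtRam.Dominates A ((algebraMap L M).comp g) W ∧ W.comap (algebraMap L M) = V := by
  let f : V →+* M := (algebraMap L M).comp V.subtype
  obtain ⟨W, hW, hloc⟩ := IsLocalRing.exists_factor_valuationRing f
  have hlt : ∀ x : V, x ∈ maximalIdeal V → W.valuation (f x) < 1 := fun x hx =>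
    (W.valuation_lt_one_iff ⟨f x, hW x⟩).1 ((mem_maximalIdeal _).2 fun hu =>
      (mem_maximalIdeal _).1 hx (hloc.map_nonunit x hu))
  refine ⟨W, ⟨fun a => hW ⟨g a, hV.1 a⟩, fun a ha =>
    hlt ⟨g a, hV.1 a⟩ ((V.valuation_lt_one_iff _).2 (hV.2 a ha))⟩, ?_⟩
  ext x
  refine ⟨fun hx => ?_, fun hx => hW ⟨x, hx⟩⟩
  by_contra hxV
  have hx0 : x ≠ 0 := fun h => hxV (h ▸ V.zero_mem)
  have hinv : x⁻¹ ∈ V := (V.mem_or_inv_mem x).resolve_left hxV
  have h1 : W.valuation (f ⟨x⁻¹, hinv⟩) < 1 := hlt _ ((mem_maximalIdeal _).2 fun hu => hxV (by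
    obtain ⟨y, hy⟩ := hu.exists_right_inv
    have h2 : x⁻¹ * (y : L) = 1 := congrArg Subtype.val hy
    have h5 : (y : L) = x := (inv_mul_eq_one₀ hx0).1 h2 |>.symm
    exact h5 ▸ y.2))
  have h3 : W.valuation (algebraMap L M x) ≤ 1 := (W.valuation_le_one_iff _).2 hx
  have h4 : W.valuation (f ⟨x⁻¹, hinv⟩) * W.valuation (algebraMap L M x) = 1 := by
    show W.valuation (algebraMap L M x⁻¹) * _ = 1
    rw [← map_mul, ← map_mul, inv_mul_cancel₀ hx0, map_one, map_one]
  exact (mul_lt_one_of_lt_of_le h1 h3).ne h4

end Tower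

section Local

variable (A V W : Type u) [CommRing A] [IsLocalRing A] [CommRing V] [IsLocalRing V] [CommRing W] [IsLocalRing W]
  [Algebra A V] [Algebra V W] [Algebra A W] [IsScalarTower A V W]
  [IsLocalHom (algebraMap A V)] [IsLocalHom (algebraMap V W)] [IsLocalHom (algebraMap A W)]

theorem isSeparable_residue_bot [Algebra.IsSeparable (ResidueField A) (ResidueField W)] :
    Algebra.IsSeparable (ResidueField A) (ResidueField V) := by
  haveI : IsScalarTower (ResidueField A) (ResidueField V) (ResidueField W) :=
    IsScalarTower.of_algebraMap_eq fun x => by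
      obtain ⟨a, rfl⟩ := residue_surjective x
      show residue W (algebraMap A W a) = residue W (algebraMap V W (algebraMap A V a))
      rw [← IsScalarTower.algebraMap_apply]
  exact Algebra.isSeparable_tower_bot_of_isSeparable (ResidueField A) (ResidueField V) (ResidueField W)

theorem isSeparable_residue_trans [Algebra.IsSeparable (ResidueField A) (ResidueField V)]
    [Algebra.IsSeparable (ResidueField V) (ResidueField W)] :
    Algebra.IsSeparable (ResidueField A) (ResidueField W) := by
  haveI : IsScalarTower (ResidueField A) (ResidueField V) (ResidueField W) :=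
    IsScalarTower.of_algebraMap_eq fun x => by
      obtain ⟨a, rfl⟩ := residue_surjective x
      show residue W (algebraMap A W a) = residue W (algebraMap V W (algebraMap A V a))
      rw [← IsScalarTower.algebraMap_apply]
  exact Algebra.IsSeparable.trans (ResidueField A) (ResidueField V) (ResidueField W)

theorem ramificationIdx'_mul [IsDomain A] [IsDomain V] [IsDomain W] [IsDiscreteValuationRing A]
    [IsDiscreteValuationRing V] [IsDiscreteValuationRing W] (hV : Function.Injective (algebraMap A V))
    (hW : Function.Injective (algebraMap V W)) :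
    Ideal.ramificationIdx' (maximalIdeal A) (maximalIdeal W) =
      Ideal.ramificationIdx' (maximalIdeal A) (maximalIdeal V) *
        Ideal.ramificationIdx' (maximalIdeal V) (maximalIdeal W) := by
  obtain ⟨π, hπ⟩ := IsDiscreteValuationRing.exists_irreducible A
  obtain ⟨ϖ, hϖ⟩ := IsDiscreteValuationRing.exists_irreducible V
  obtain ⟨ω, hω⟩ := IsDiscreteValuationRing.exists_irreducible W
  have key : ∀ {R : Type u} [CommRing R] [IsDomain R] [IsDiscreteValuationRing R] {S : Type u} [CommRing S]
      [IsDomain S] [IsDiscreteValuationRing S] [Algebra R S] (a : R) (b : S) (n : ℕ), Irreducible a → Irreducible b →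
      (Ideal.span {algebraMap R S a} = Ideal.span {b ^ n}) →
      Ideal.ramificationIdx' (maximalIdeal R) (maximalIdeal S) = n := by
    intro R _ _ _ S _ _ _ _ a b n ha hb h
    refine Ideal.ramificationIdx'_spec ?_ ?_ <;>
      rw [ha.maximalIdeal_eq, hb.maximalIdeal_eq, Ideal.map_span, Set.image_singleton, h,
        Ideal.span_singleton_pow]
    rw [Ideal.span_singleton_le_span_singleton]
    exact fun hd => (pow_dvd_pow_iff hb.ne_zero hb.not_isUnit).1 hd |>.not_gt (Nat.lt_succ_self n)
  obtain ⟨a, u, hu⟩ := IsDiscreteValuationRing.eq_unit_mul_pow_irreducible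
    (show algebraMap A V π ≠ 0 from fun h => hπ.ne_zero (hV (h.trans (map_zero _).symm))) hϖ
  obtain ⟨b, v, hv⟩ := IsDiscreteValuationRing.eq_unit_mul_pow_irreducible
    (show algebraMap V W ϖ ≠ 0 from fun h => hϖ.ne_zero (hW (h.trans (map_zero _).symm))) hω
  rw [key π ϖ a hπ hϖ (by rw [hu, Ideal.span_singleton_mul_left_unit u.isUnit]),
    key ϖ ω b hϖ hω (by rw [hv, Ideal.span_singleton_mul_left_unit v.isUnit]),
    key π ω (a * b) hπ hω (by
      rw [IsScalarTower.algebraMap_apply A V W, hu, map_mul, map_pow, hv, mul_pow, ← pow_mul, mul_comm b a,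
        Ideal.span_singleton_mul_left_unit (u.isUnit.map _), Ideal.span_singleton_mul_left_unit (v.isUnit.pow a)])]

end Local

end Groth.Agent.EtRamLib
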